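import Cfsg.Agent.Lib.M24SylowType.Closed

/-!
The action of the Sylow subgroup on the abelian subgroup of order 64.

* `Mid`, `exists_mid` : an element of order four outside with its fixed points
* `le_normalizer` : the Sylow subgroup normalises the abelian subgroup
* `no_eight` : the automiser has no elementary abelian subgroup of order eight of transvections
-/

set_option autoImplicit false
set_option linter.unusedSectionVars false
set_option linter.style.haveILetI false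

namespace Cfsg.Agent.M24SylowType

open Cfsg Subgroup
open scoped commutatorElement

variable {G : Type*} [Group G] [Finite G] {A : Subgroup G} {φ : ℕ → G} {S : Sylow 2 G}

/-- An element inducing order four on the abelian subgroup. -/
structure Mid (A : Subgroup G) (w : G) : Prop where
  norm : w ∈ normalizer (A : Set G)
  four : w * w * (w * w) ∈ A
  fix : ∀ a ∈ A, w * (w * w * a * (w * w)⁻¹ * a⁻¹) * w⁻¹ = w * w * a * (w * w)⁻¹ * a⁻¹
  twice : ∀ a ∈ A,
    w * (w * a * w⁻¹ * a⁻¹) * w⁻¹ * (w * a * w⁻¹ * a⁻¹)⁻¹ = w * w * a * (w * w)⁻¹ * a⁻¹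
  lift : ∀ a ∈ A, w * a * w⁻¹ = a → ∃ b ∈ A, a = w * w * b * (w * w)⁻¹ * b⁻¹
  ne : ∃ a ∈ A, w * w * a * (w * w)⁻¹ * a⁻¹ ≠ 1

theorem le_normalizer (D : Setup (S : Subgroup G) A φ) (h : Only64 (S : Subgroup G) A) :
    (S : Subgroup G) ≤ normalizer (A : Set G) := fun s hs =>
  Coprime.mem_normalizer_of_forall fun a ha => by
    simpa using h.conj_mem le_rfl D.le (x := s⁻¹)
      (inv_mem (Subgroup.le_normalizer hs)) ha

theorem exists_mid (D : Setup (S : Subgroup G) A φ) (h : Only64 (S : Subgroup G) A) :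
    ∃ w : G, Mid A w := by
  have h3 : (3 : ℕ) < 512 := by norm_num
  have hs : mulN 3 3 < 512 := mulN_lt h3 3
  have hmod : mulN 3 3 % 8 = mul8 3 3 := mulN_mod 3 3
  have hsq : φ 3 * φ 3 = φ (mulN 3 3) := (D.mul 3 h3 3 h3).symm
  have tw : ∀ v < 64, dl (mul8 3 3) v = dl 3 (dl 3 v) := by
    have h' : ((List.range 64).all fun v => dl (mul8 3 3) v == dl 3 (dl 3 v)) = true := by
      decide +kernel
    exact fun v hv => beq_iff_eq.1 (M24Sylow.of_all_range h' hv)
  refine ⟨φ 3, le_normalizer D h (D.phi_mem h3), ?_, ?_, ?_, ?_, ?_⟩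
  · rw [hsq, ← D.mul _ hs _ hs, D.memA _ (mulN_lt hs _)]
    decide +kernel
  · intro a ha
    obtain ⟨v, hv, rfl⟩ := D.exists_A ha
    rw [hsq, D.comm_A hs hv, hmod, tw v hv]
    have := D.comm_A h3 (dl_lt 3 (dl_lt 3 hv))
    rw [show (3 : ℕ) % 8 = 3 from rfl, dl_three (by norm_num) (by norm_num) (by norm_num) hv,
      show φ (M24SylowType.mk 0 0) = 1 from D.zero, mul_inv_eq_one] at this
    exact this
  · intro a ha
    obtain ⟨v, hv, rfl⟩ := D.exists_A ha
    rw [hsq, D.comm_A hs hv, D.comm_A h3 hv, show (3 : ℕ) % 8 = 3 from rfl, hmod, tw v hv]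
    exact D.comm_A h3 (dl_lt 3 hv)
  · intro a ha hfix
    obtain ⟨v, hv, rfl⟩ := D.exists_A ha
    have h1 := D.comm_A h3 hv
    rw [hfix, mul_inv_cancel, show (3 : ℕ) % 8 = 3 from rfl] at h1
    have h2 := D.inj _ (mk_lt (dl_lt 3 hv) (by norm_num)) 0 (by norm_num) (h1.symm.trans D.zero.symm)
    have h0 : dl 3 v = 0 := by
      have : 8 * dl 3 v + 0 = 0 := h2
      omega
    have h' : ((List.range 64).all fun v => !(dl 3 v == 0) ||
        (List.range 64).any fun u => dl (mul8 3 3) u == v) = true := by decide +kernel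
    have h'' := M24Sylow.of_all_range h' hv
    simp only [h0, beq_self_eq_true, Bool.not_true, Bool.false_or, List.any_eq_true, List.mem_range,
      beq_iff_eq] at h''
    obtain ⟨u, hu, rfl⟩ := h''
    exact ⟨_, D.A_mem hu, by rw [hsq, D.comm_A hs hu, hmod]⟩
  · obtain ⟨v, hv, hne⟩ : ∃ v < 64, dl (mul8 3 3) v ≠ 0 := by decide +kernel
    refine ⟨_, D.A_mem hv, fun e => hne ?_⟩
    rw [hsq, D.comm_A hs hv, hmod] at e
    have h2 := D.inj _ (mk_lt (dl_lt _ hv) (by norm_num)) 0 (by norm_num) (e.trans D.zero.symm)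
    have : 8 * dl (mul8 3 3) v + 0 = 0 := h2
    omega

theorem no_eight (D : Setup (S : Subgroup G) A φ) (h : Only64 (S : Subgroup G) A)
    (hsq : ∀ a ∈ A, a * a = 1) {Q F : Subgroup G} (hQN : Q ≤ normalizer (A : Set G))
    (hF : Q ≤ centralizer (F : Set G)) (hcomm : ⁅A, Q⁆ ≤ F)
    (hidx : 8 * Nat.card ↥(Q ⊓ centralizer (A : Set G) : Subgroup G) ≤ Nat.card ↥Q) : False := by
  classical
  haveI : Fact (Nat.Prime 2) := ⟨Nat.prime_two⟩
  haveI := h.1
  have hc : ∀ a ∈ A, ∀ b ∈ A, a * b = b * a := fun a ha b hb => setLike_mul_comm ha hb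
  set N := normalizer (A : Set G) with hNdef
  have hSN := le_normalizer D h
  let f : ↥N →* MulAut ↥A :=
    { toFun := fun m =>
        { toFun := fun x => ⟨(m : G) * (x : G) * (m : G)⁻¹, (mem_normalizer_iff.1 m.2 _).1 x.2⟩
          invFun := fun x => ⟨(m : G)⁻¹ * (x : G) * (m : G), (mem_normalizer_iff''.1 m.2 _).1 x.2⟩
          left_inv := fun x => Subtype.ext (by simp [mul_assoc])
          right_inv := fun x => Subtype.ext (by simp [mul_assoc])
          map_mul' := fun x y => Subtype.ext (by simp [mul_assoc]) }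
      map_one' := MulEquiv.ext fun x => Subtype.ext (by simp)
      map_mul' := fun a b => MulEquiv.ext fun x => Subtype.ext (by simp [mul_assoc]) }
  have happ : ∀ (m : ↥N) (a : ↥A), ((f m a : ↥A) : G) = (m : G) * (a : G) * (m : G)⁻¹ := fun _ _ => rfl
  set g := f.rangeRestrict with hgdef
  set Qi := (Q.subgroupOf N).map g with hQi
  have hext : ∀ m n : ↥N, (∀ a ∈ A, (m : G) * a * (m : G)⁻¹ = (n : G) * a * (n : G)⁻¹) → g m = g n :=
    fun m n he => Subtype.ext (MulEquiv.ext fun a => Subtype.ext (he a a.2))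
  have htr : ∀ x ∈ Q, ∀ y ∈ Q, ∀ a ∈ A,
      x * y * a * (x * y)⁻¹ = (y * a * y⁻¹ * a⁻¹) * (x * a * x⁻¹ * a⁻¹) * a := by
    intro x hx y hy a ha
    have hey : y * a * y⁻¹ * a⁻¹ ∈ F := hcomm (by
      rw [Subgroup.commutator_comm, ← commutatorElement_def]
      exact commutator_mem_commutator hy ha)
    have h1 : x * (y * a * y⁻¹ * a⁻¹) * x⁻¹ = y * a * y⁻¹ * a⁻¹ := by
      rw [← mem_centralizer_iff.1 (hF hx) _ hey, mul_inv_cancel_right]
    calc x * y * a * (x * y)⁻¹ = x * (y * a * y⁻¹ * a⁻¹) * x⁻¹ * (x * a * x⁻¹ * a⁻¹) * a := by group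
      _ = _ := by rw [h1]
  have hQab : ∀ m ∈ Q.subgroupOf N, ∀ n ∈ Q.subgroupOf N, g m * g n = g n * g m := by
    intro m hm n hn
    rw [← map_mul, ← map_mul]
    refine hext _ _ fun a ha => ?_
    simp only [Subgroup.coe_mul]
    rw [htr (m : G) hm (n : G) hn a ha, htr (n : G) hn (m : G) hm a ha]
    have hA : ∀ z ∈ Q, z * a * z⁻¹ * a⁻¹ ∈ A := fun z hz =>
      mul_mem ((mem_normalizer_iff.1 (hQN hz) a).1 ha) (inv_mem ha)
    rw [hc _ (hA (n : G) hn) _ (hA (m : G) hm)]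
  have hQsq : ∀ m ∈ Q.subgroupOf N, g m * g m = 1 := by
    intro m hm
    rw [← map_mul, ← map_one g]
    refine hext _ _ fun a ha => ?_
    simp only [Subgroup.coe_mul, Subgroup.coe_one, one_mul, inv_one, mul_one]
    rw [htr (m : G) hm (m : G) hm a ha,
      hsq _ (mul_mem ((mem_normalizer_iff.1 m.2 a).1 ha) (inv_mem ha)), one_mul]
  have hQ2 : IsPGroup 2 ↥Qi := by
    rintro ⟨_, m, hm, rfl⟩
    refine ⟨1, Subtype.ext ?_⟩
    simpa [pow_two] using hQsq m hm
  have hker : g.ker = (centralizer (A : Set G)).subgroupOf N := by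
    ext m
    rw [MonoidHom.ker_rangeRestrict, MonoidHom.mem_ker, mem_subgroupOf, mem_centralizer_iff]
    constructor
    · intro hm a ha
      have := congrArg (fun e : MulAut ↥A => ((e ⟨a, ha⟩ : ↥A) : G)) hm
      simp only [happ, MulAut.one_apply] at this
      exact (mul_inv_eq_iff_eq_mul.1 this).symm
    · intro hm
      refine MulEquiv.ext fun a => Subtype.ext ?_
      rw [happ, ← hm a a.2, mul_inv_cancel_right]
      rfl
  have hQ8 : 8 ≤ Nat.card ↥Qi := by
    rw [hQi, ← relIndex_ker, hker, relIndex_subgroupOf hQN, ← inf_relIndex_right]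
    set I := centralizer (A : Set G) ⊓ Q
    have hI : Q ⊓ centralizer (A : Set G) = I := inf_comm _ _
    rw [hI] at hidx
    have h1 := Subgroup.card_mul_index (I.subgroupOf Q)
    rw [Nat.card_congr (subgroupOfEquivOfLe (inf_le_right : I ≤ Q)).toEquiv] at h1
    rw [← h1, mul_comm 8] at hidx
    exact Nat.le_of_mul_le_mul_left hidx Nat.card_pos
  let R : Sylow 2 ↥f.range := (S.subtype hSN).mapSurjective (f := g) f.rangeRestrict_surjective
  have hR : ∀ r ∈ (R : Subgroup ↥f.range), ∃ m : ℕ, ∃ hm : φ m ∈ N, m < 8 ∧ r = g ⟨φ m, hm⟩ := by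
    rintro _ ⟨s, hs, rfl⟩
    obtain ⟨x, hx, hxe⟩ := (D.mem (s : G)).1 hs
    have hm8 : x % 8 < 512 := lt_trans (parts_lt hx).2 (by norm_num)
    refine ⟨x % 8, hSN (D.phi_mem hm8), (parts_lt hx).2, hext _ _ fun a ha => ?_⟩
    obtain ⟨v, hv, rfl⟩ := D.exists_A ha
    have h1 := D.comm_A hx hv
    have h2 := D.comm_A hm8 hv
    rw [Nat.mod_mod] at h2
    show (s : G) * _ * (s : G)⁻¹ = φ (x % 8) * _ * (φ (x % 8))⁻¹
    rw [← hxe]
    exact mul_right_cancel (h1.trans h2.symm)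
  have hR8 : Nat.card ↥(R : Subgroup ↥f.range) ≤ 8 := by
    let F : Fin 8 → ↥f.range := fun m => if hm : φ m ∈ N then g ⟨φ m, hm⟩ else 1
    have hsub : ((R : Subgroup ↥f.range) : Set ↥f.range) ⊆ Set.range F := by
      intro r hr
      obtain ⟨m, hm, hm8, rfl⟩ := hR r hr
      exact ⟨⟨m, hm8⟩, dif_pos hm⟩
    calc Nat.card ↥(R : Subgroup ↥f.range)
        ≤ Nat.card (Set.range F) := Nat.card_mono (Set.toFinite _) hsub
      _ ≤ Nat.card (Fin 8) := Finite.card_range_le F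
      _ = 8 := by simp
  obtain ⟨R₁, hR₁⟩ := hQ2.exists_le_sylow
  obtain ⟨k, hk⟩ := MulAction.exists_smul_eq ↥f.range R₁ R
  have hcardR : Nat.card ↥(R₁ : Subgroup ↥f.range) = Nat.card ↥(R : Subgroup ↥f.range) :=
    Nat.card_congr (R₁.equiv R).toEquiv
  have hQeq : Qi = (R₁ : Subgroup ↥f.range) := Subgroup.eq_of_le_of_card_ge hR₁ (by omega)
  have hRab : ∀ r ∈ (R : Subgroup ↥f.range), ∀ t ∈ (R : Subgroup ↥f.range), r * t = t * r := by
    intro r hr t ht
    rw [← hk, Sylow.coe_subgroup_smul, Coprime.mem_conj, ← hQeq] at hr ht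
    obtain ⟨m, hm, hm'⟩ := hr
    obtain ⟨n, hn, hn'⟩ := ht
    have h1 := hQab m hm n hn
    rw [hm', hn'] at h1
    calc r * t = k * (k⁻¹ * r * k * (k⁻¹ * t * k)) * k⁻¹ := by group
      _ = k * (k⁻¹ * t * k * (k⁻¹ * r * k)) * k⁻¹ := by rw [h1]
      _ = t * r := by group
  have h2 : (2 : ℕ) < 512 := by norm_num
  have h3 : (3 : ℕ) < 512 := by norm_num
  have hmem : ∀ m, (hm : m < 512) → g ⟨φ m, hSN (D.phi_mem hm)⟩ ∈ (R : Subgroup ↥f.range) :=
    fun m hm => ⟨⟨φ m, hSN (D.phi_mem hm)⟩, D.phi_mem hm, rfl⟩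
  have hcm := hRab _ (hmem 2 h2) _ (hmem 3 h3)
  obtain ⟨v, hv, hne⟩ : ∃ v < 64, act 2 (act 3 v) ≠ act 3 (act 2 v) := by decide +kernel
  have hconj : ∀ m < 8, ∀ u < 64, φ m * φ (M24SylowType.mk u 0) * (φ m)⁻¹ =
      φ (M24SylowType.mk (act m u) 0) := by
    intro m hm u hu
    have hm5 : m < 512 := by omega
    rw [← D.mul m hm5 _ (mk_lt hu (by norm_num)), mulN_move hm5 u, Nat.mod_eq_of_lt hm,
      D.mul _ (mk_lt (act_lt m u) (by norm_num)) m hm5, mul_inv_cancel_right]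
  have := congrArg (fun r : ↥f.range => (((r : MulAut ↥A) ⟨_, D.A_mem hv⟩ : ↥A) : G)) hcm
  simp only [Subgroup.coe_mul, MulAut.mul_apply, hgdef, MonoidHom.coe_rangeRestrict, happ] at this
  rw [hconj 3 (by norm_num) v hv, hconj 2 (by norm_num) _ (act_lt 3 v), hconj 2 (by norm_num) v hv,
    hconj 3 (by norm_num) _ (act_lt 2 v)] at this
  have h4 := D.inj _ (mk_lt (act_lt _ _) (by norm_num)) _ (mk_lt (act_lt _ _) (by norm_num)) this
  refine hne ?_
  have h5 : 8 * act 2 (act 3 v) + 0 = 8 * act 3 (act 2 v) + 0 := h4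
  omega

end Cfsg.Agent.M24SylowType
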