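import Cfsg.Agent.Lib.M24SylowType.Beta

/-!
A link contains the abelian subgroup of order 64.

* `A_le_of_good` : every link contains the abelian subgroup
-/

set_option autoImplicit false
set_option linter.unusedSectionVars false
set_option linter.style.haveILetI false

namespace Cfsg.Agent.M24SylowType

open Cfsg Subgroup Cfsg.Agent.StrongAlperin

variable {G : Type*} [Group G] [Finite G] {A : Subgroup G} {φ : ℕ → G} {P : Sylow 2 G}

/-- The commutator map of a class on the abelian subgroup. -/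
def dl (m v : ℕ) : ℕ := Nat.xor v (act m v)

theorem dl_lt (m : ℕ) {v : ℕ} (hv : v < 64) : dl m v < 64 :=
  Nat.xor_lt_two_pow (n := 6) hv (act_lt _ _)

theorem mul8_zero {m : ℕ} (hm : m < 8) : mul8 m 0 = m ∧ mul8 0 m = m := by
  have h : ((List.range 8).all fun m => mul8 m 0 == m && mul8 0 m == m) = true := by decide +kernel
  simpa using M24Sylow.of_all_range h hm

theorem act_zero {v : ℕ} (hv : v < 64) : act 0 v = v := by
  have h : ((List.range 64).all fun v => act 0 v == v) = true := by decide +kernel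
  simpa using M24Sylow.of_all_range h hv

theorem mk_mod (v : ℕ) {m : ℕ} (hm : m < 8) : M24SylowType.mk v m % 8 = m := by
  show (8 * v + m) % 8 = m
  omega

theorem mk_div (v : ℕ) {m : ℕ} (hm : m < 8) : M24SylowType.mk v m / 8 = v := by
  show (8 * v + m) / 8 = v
  omega

theorem mulN_mod (x y : ℕ) : mulN x y % 8 = mul8 (x % 8) (y % 8) := mk_mod _ (mul8_lt _ _)

theorem invN_mod (x : ℕ) : invN x % 8 = inv8 (x % 8) := mk_mod _ (inv8_lt _)

theorem mulN_move {y : ℕ} (hy : y < 512) (w : ℕ) :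
    mulN y (M24SylowType.mk w 0) = mulN (M24SylowType.mk (act (y % 8) w) 0) y := by
  have hm : y % 8 < 8 := (parts_lt hy).2
  show M24SylowType.mk _ (mul8 (y % 8) (M24SylowType.mk w 0 % 8)) = M24SylowType.mk _ (mul8 (M24SylowType.mk (act (y % 8) w) 0 % 8) (y % 8))
  rw [mk_mod _ (by norm_num), mk_mod _ (by norm_num), (mul8_zero hm).1, (mul8_zero hm).2]
  show M24SylowType.mk (Nat.xor (y / 8) (act (y % 8) (M24SylowType.mk w 0 / 8))) _ =
    M24SylowType.mk (Nat.xor (M24SylowType.mk (act (y % 8) w) 0 / 8) (act (M24SylowType.mk (act (y % 8) w) 0 % 8) (y / 8))) _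
  rw [mk_div _ (by norm_num), mk_div _ (by norm_num), mk_mod _ (by norm_num),
    act_zero (parts_lt hy).1]
  exact congrArg (fun v => M24SylowType.mk v (y % 8)) (Nat.xor_comm _ _)

theorem mulN_A {v w : ℕ} (hw : w < 64) : mulN (M24SylowType.mk v 0) (M24SylowType.mk w 0) = M24SylowType.mk (Nat.xor v w) 0 := by
  show M24SylowType.mk (Nat.xor (M24SylowType.mk v 0 / 8) (act (M24SylowType.mk v 0 % 8) (M24SylowType.mk w 0 / 8)))
    (mul8 (M24SylowType.mk v 0 % 8) (M24SylowType.mk w 0 % 8)) = _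
  rw [mk_div _ (by norm_num), mk_div _ (by norm_num), mk_mod _ (by norm_num), mk_mod _ (by norm_num),
    act_zero hw, (mul8_zero (m := 0) (by norm_num)).1]

theorem Setup.comm_A (D : Setup (P : Subgroup G) A φ) {y : ℕ} (hy : y < 512) {w : ℕ} (hw : w < 64) :
    φ y * φ (M24SylowType.mk w 0) * (φ y)⁻¹ * (φ (M24SylowType.mk w 0))⁻¹ = φ (M24SylowType.mk (dl (y % 8) w) 0) := by
  have ha := mk_lt hw (show (0 : ℕ) < 8 by norm_num)
  have hb := mk_lt (act_lt (y % 8) w) (show (0 : ℕ) < 8 by norm_num)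
  rw [← D.mul y hy _ ha, mulN_move hy w, D.mul _ hb y hy, mul_inv_cancel_right,
    mul_inv_eq_iff_eq_mul,
    ← D.mul _ (mk_lt (dl_lt _ hw) (by norm_num)) _ ha, mulN_A hw]
  refine congrArg (fun v => φ (M24SylowType.mk v 0)) ?_
  show act (y % 8) w = (w ^^^ act (y % 8) w) ^^^ w
  rw [Nat.xor_comm w, Nat.xor_assoc, Nat.xor_self, Nat.xor_zero]

theorem dl_three {k n m v : ℕ} (hk : k < 8) (hn : n < 8) (hm : m < 8) (hv : v < 64) :
    dl k (dl n (dl m v)) = 0 := by
  have h : ((List.range 8).all fun k => (List.range 8).all fun n => (List.range 8).all fun m =>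
      (List.range 64).all fun v => dl k (dl n (dl m v)) == 0) = true := by decide +kernel
  have h' := all_two h hk hn
  exact beq_iff_eq.1 (M24Sylow.of_all_range (M24Sylow.of_all_range h' hm) hv)

theorem dl_invol {n m v : ℕ} (hn : n < 8) (hm : m < 8) (hv : v < 64)
    (hc : mul8 m n = mul8 n m) (h2 : mul8 m m = 0) : dl n (dl m v) = 0 := by
  have h : ((List.range 8).all fun n => (List.range 8).all fun m =>
      !(Nat.beq (mul8 m n) (mul8 n m)) || !(Nat.beq (mul8 m m) 0) ||
      (List.range 64).all fun v => dl n (dl m v) == 0) = true := by decide +kernel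
  have h' := all_two h hn hm
  simp only [Bool.or_eq_true, Bool.not_eq_true'] at h'
  rcases h' with (h' | h') | h'
  · rw [hc, Nat.beq_refl] at h'; exact Bool.noConfusion h'
  · rw [h2] at h'; exact Bool.noConfusion h'
  · exact beq_iff_eq.1 (M24Sylow.of_all_range h' hv)

theorem comm_mid {m n : ℕ} (hm : m < 8) (hn : n < 8)
    (h : mul8 (mul8 (mul8 m n) (inv8 m)) (inv8 n) = 0) : mul8 m n = mul8 n m := by
  have h' : ((List.range 8).all fun m => (List.range 8).all fun n =>
      !(Nat.beq (mul8 (mul8 (mul8 m n) (inv8 m)) (inv8 n)) 0) ||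
        Nat.beq (mul8 m n) (mul8 n m)) = true := by decide +kernel
  have := all_two h' hm hn
  rw [h] at this
  simpa [Nat.beq_eq] using this

theorem centralizer_mid {m n : ℕ} (hm : m < 8) (hn : n < 8)
    (hc : mul8 m n = mul8 n m) (h2 : mul8 m m ≠ 0) :
    n = 0 ∨ n = m ∨ n = mul8 m m ∨ n = mul8 m (mul8 m m) := by
  have h : ((List.range 8).all fun m => (List.range 8).all fun n =>
      !(Nat.beq (mul8 m n) (mul8 n m)) || Nat.beq (mul8 m m) 0 ||
      (n == 0 || n == m || n == mul8 m m || n == mul8 m (mul8 m m))) = true := by decide +kernel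
  have h' := all_two h hm hn
  simp only [Bool.or_eq_true, Bool.not_eq_true', Nat.beq_eq, beq_iff_eq] at h'
  rcases h' with (h' | h') | h'
  · rw [hc, Nat.beq_refl] at h'; exact Bool.noConfusion h'
  · exact absurd h' h2
  · tauto

theorem dl_square {m v : ℕ} (hm : m < 8) (hv : v < 64) (h : dl m (dl m v) = 0) :
    dl (mul8 m m) v = 0 := by
  have h' : ((List.range 8).all fun m =>
      (List.range 64).all fun v => !(dl m (dl m v) == 0) || dl (mul8 m m) v == 0) = true := by
    decide +kernel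
  have := all_two h' hm hv
  rw [h] at this
  simpa using this

/-- The code of an element of the abelian subgroup. -/
theorem Setup.exists_A (D : Setup (P : Subgroup G) A φ) {a : G} (ha : a ∈ A) :
    ∃ w < 64, φ (M24SylowType.mk w 0) = a := by
  obtain ⟨x, hx, rfl⟩ := (D.mem a).1 (D.le ha)
  have h8 := (D.memA x hx).1 ha
  refine ⟨x / 8, (parts_lt hx).1, congrArg φ ?_⟩
  show 8 * (x / 8) + 0 = x
  omega

theorem Setup.A_mem (D : Setup (P : Subgroup G) A φ) {w : ℕ} (hw : w < 64) : φ (M24SylowType.mk w 0) ∈ A :=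
  (D.memA _ (mk_lt hw (by norm_num))).2 (mk_mod _ (by norm_num))

theorem Setup.comm_trivial (D : Setup (P : Subgroup G) A φ) {t : G} (ht : t ∈ (P : Subgroup G))
    {w : ℕ} (hw : w < 64) (h : ∀ n < 8, dl n w = 0) : t * φ (M24SylowType.mk w 0) = φ (M24SylowType.mk w 0) * t := by
  obtain ⟨y, hy, rfl⟩ := (D.mem t).1 ht
  have h1 := D.comm_A hy hw
  rw [h _ (parts_lt hy).2, show φ (M24SylowType.mk 0 0) = 1 from D.zero, mul_inv_eq_one, mul_inv_eq_iff_eq_mul] at h1
  exact h1

theorem Setup.central_in (D : Setup (P : Subgroup G) A φ) {H : Subgroup G}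
    (hg : Good 2 (P : Subgroup G) H) {w : ℕ} (hw : w < 64) (h : ∀ n < 8, dl n w = 0) :
    φ (M24SylowType.mk w 0) ∈ H ∧ ∀ t ∈ H, φ (M24SylowType.mk w 0) * t = t * φ (M24SylowType.mk w 0) := by
  have h1 : ∀ t ∈ H, φ (M24SylowType.mk w 0) * t = t * φ (M24SylowType.mk w 0) := fun t ht =>
    (D.comm_trivial (hg.1 ht) hw h).symm
  exact ⟨hg.2.2.1 ⟨D.le (D.A_mem hw), mem_centralizer_iff.2 fun t ht => (h1 t ht).symm⟩, h1⟩

theorem conj_quot (a x : G) : x⁻¹ * (a * x * a⁻¹) = x⁻¹ * a * x * a⁻¹ := by group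

theorem mem_normalizer_of_comm {H : Subgroup G} {a : G}
    (h : ∀ t ∈ H, t⁻¹ * a * t * a⁻¹ ∈ H) : a ∈ normalizer (H : Set G) :=
  Coprime.mem_normalizer_of_forall fun t ht => by
    have := mul_mem ht (h t ht)
    rwa [← conj_quot, mul_inv_cancel_left] at this

/-- Elements of the abelian subgroup with trivial second commutators lie in a link. -/
theorem second_mem (D : Setup (P : Subgroup G) A φ) {H : Subgroup G}
    (hg : Good 2 (P : Subgroup G) H) {w : ℕ} (hw : w < 64)
    (h2 : ∀ n < 8, ∀ m < 8, dl n (dl m w) = 0) : φ (M24SylowType.mk w 0) ∈ H := by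
  haveI : Fact (Nat.Prime 2) := ⟨Nat.prime_two⟩
  have hd : ∀ t ∈ H, t⁻¹ * φ (M24SylowType.mk w 0) * t * (φ (M24SylowType.mk w 0))⁻¹ ∈ H ∧
      ∀ s ∈ H, (t⁻¹ * φ (M24SylowType.mk w 0) * t * (φ (M24SylowType.mk w 0))⁻¹) * s = s * (t⁻¹ * φ (M24SylowType.mk w 0) * t * (φ (M24SylowType.mk w 0))⁻¹) := by
    intro t ht
    obtain ⟨y, hy, e⟩ := (D.mem t⁻¹).1 (hg.1 (inv_mem ht))
    have h := D.central_in hg (dl_lt (y % 8) hw) fun n hn => h2 n hn _ (parts_lt hy).2
    rw [← D.comm_A hy hw, e, inv_inv] at h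
    exact h
  have hN := mem_normalizer_of_comm fun t ht => (hd t ht).1
  refine stab_mem P hg (D.le (D.A_mem hw)) hN 2
    (fun i => if i = 0 then ⊥ else if i = 1 then center ↥H else ⊤) rfl rfl ?_ ?_ ?_
  · intro i hi
    interval_cases i <;> simp
  · intro i hi
    interval_cases i <;> norm_num <;> infer_instance
  · intro i hi x hx
    interval_cases i <;> norm_num at hx ⊢
    · have hxA : (x : G) ∈ A := central_mem D hg x.2 fun s hs =>
        congrArg Subtype.val (mem_center_iff.1 hx ⟨s, hs⟩).symm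
      obtain ⟨v, hv, e⟩ := D.exists_A hxA
      refine Subtype.ext ?_
      show (x : G)⁻¹ * (φ (M24SylowType.mk w 0) * (x : G) * (φ (M24SylowType.mk w 0))⁻¹) = 1
      have hc : φ (M24SylowType.mk w 0) * φ (M24SylowType.mk v 0) = φ (M24SylowType.mk v 0) * φ (M24SylowType.mk w 0) := by
        rw [← D.mul _ (mk_lt hw (by norm_num)) _ (mk_lt hv (by norm_num)),
          ← D.mul _ (mk_lt hv (by norm_num)) _ (mk_lt hw (by norm_num)), mulN_A hv, mulN_A hw]
        exact congrArg (fun u => φ (M24SylowType.mk u 0)) (Nat.xor_comm w v)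
      rw [← e, hc, mul_inv_cancel_right, inv_mul_cancel]
    · refine mem_center_iff.2 fun s => Subtype.ext ?_
      show (s : G) * ((x : G)⁻¹ * (φ (M24SylowType.mk w 0) * (x : G) * (φ (M24SylowType.mk w 0))⁻¹)) =
        (x : G)⁻¹ * (φ (M24SylowType.mk w 0) * (x : G) * (φ (M24SylowType.mk w 0))⁻¹) * s
      rw [conj_quot]
      exact ((hd _ x.2).2 _ s.2).symm

/-- Every link contains the abelian subgroup. -/
theorem A_le_of_good (D : Setup (P : Subgroup G) A φ) {H : Subgroup G}
    (hg : Good 2 (P : Subgroup G) H) : A ≤ H := by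
  haveI : Fact (Nat.Prime 2) := ⟨Nat.prime_two⟩
  intro a ha
  obtain ⟨w, hw, rfl⟩ := D.exists_A ha
  have hA2 : ∀ m < 8, φ (M24SylowType.mk (dl m w) 0) ∈ H := fun m hm =>
    second_mem D hg (dl_lt m hw) fun n hn k hk => dl_three hn hk hm hw
  have hd : ∀ t ∈ H, t⁻¹ * φ (M24SylowType.mk w 0) * t * (φ (M24SylowType.mk w 0))⁻¹ ∈ H := by
    intro t ht
    obtain ⟨y, hy, e⟩ := (D.mem t⁻¹).1 (hg.1 (inv_mem ht))
    have h := hA2 _ (parts_lt hy).2
    rw [← D.comm_A hy hw, e, inv_inv] at h
    exact h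
  have hN := mem_normalizer_of_comm hd
  refine stab_mem P hg (D.le ha) hN 3
    (fun i => if i = 0 then ⊥ else if i = 1 then center ↥H
      else if i = 2 then Subgroup.upperCentralSeries ↥H 2 else ⊤) rfl rfl ?_ ?_ ?_
  · intro i hi
    interval_cases i <;> norm_num
    rw [← Subgroup.upperCentralSeries_one ↥H]
    exact Subgroup.upperCentralSeries_mono _ (by norm_num : 1 ≤ 2)
  · intro i hi
    interval_cases i <;> norm_num <;> infer_instance
  · intro i hi x hx
    interval_cases i <;> norm_num at hx ⊢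
    · have hxA : (x : G) ∈ A := central_mem D hg x.2 fun s hs =>
        congrArg Subtype.val (mem_center_iff.1 hx ⟨s, hs⟩).symm
      obtain ⟨v, hv, e⟩ := D.exists_A hxA
      refine Subtype.ext ?_
      show (x : G)⁻¹ * (φ (M24SylowType.mk w 0) * (x : G) * (φ (M24SylowType.mk w 0))⁻¹) = 1
      have hc : φ (M24SylowType.mk w 0) * φ (M24SylowType.mk v 0) = φ (M24SylowType.mk v 0) * φ (M24SylowType.mk w 0) := by
        rw [← D.mul _ (mk_lt hw (by norm_num)) _ (mk_lt hv (by norm_num)),
          ← D.mul _ (mk_lt hv (by norm_num)) _ (mk_lt hw (by norm_num)), mulN_A hv, mulN_A hw]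
        exact congrArg (fun u => φ (M24SylowType.mk u 0)) (Nat.xor_comm w v)
      rw [← e, hc, mul_inv_cancel_right, inv_mul_cancel]
    · obtain ⟨y, hy, e⟩ := (D.mem (x : G)⁻¹).1 (hg.1 (inv_mem x.2))
      have hx' : x⁻¹ ∈ Subgroup.upperCentralSeries ↥H 2 := inv_mem hx
      have hcomm : ∀ t ∈ H, ∀ z < 512, φ z = t →
          mul8 (y % 8) (z % 8) = mul8 (z % 8) (y % 8) ∧
          ∀ s ∈ H, φ (commN y z) * s = s * φ (commN y z) := by
        intro t ht z hz ez
        have h1 := Subgroup.mem_upperCentralSeries_succ_iff.1 hx' ⟨t, ht⟩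
        rw [Subgroup.upperCentralSeries_one] at h1
        have h2 : φ (commN y z) ∈ H ∧ ∀ s ∈ H, φ (commN y z) * s = s * φ (commN y z) := by
          rw [D.comm hy hz, e, ez]
          exact ⟨mul_mem (mul_mem (mul_mem (inv_mem x.2) ht) (inv_mem (inv_mem x.2))) (inv_mem ht),
            fun s hs => congrArg Subtype.val (mem_center_iff.1 h1 ⟨s, hs⟩).symm⟩
        have h3 := (D.memA _ (commN_lt hy z)).1 (central_mem D hg h2.1 h2.2)
        rw [commN, conjN, mulN_mod, mulN_mod, mulN_mod, invN_mod, invN_mod] at h3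
        exact ⟨comm_mid (parts_lt hy).2 (parts_lt hz).2 h3, h2.2⟩
      have hsq : mul8 (y % 8) (y % 8) = 0 := by
        by_contra hne
        have h4 : φ y * φ y ∈ A := by
          refine central_mem D hg (mul_mem (e ▸ inv_mem x.2) (e ▸ inv_mem x.2)) fun s hs => ?_
          have hyH : φ y ∈ H := e ▸ inv_mem x.2
          obtain ⟨z, hz, rfl⟩ := (D.mem s).1 (hg.1 hs)
          obtain ⟨hc, -⟩ := hcomm _ hs z hz rfl
          obtain ⟨j, hjA⟩ : ∃ j : ℕ, (φ y ^ j)⁻¹ * φ z ∈ A := by
            have key : ∀ (k : ℕ) (hk : k < 512), k % 8 = z % 8 → (φ k)⁻¹ * φ z ∈ A := by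
              intro k hk hkz
              rw [← D.inv hk, ← D.mul _ (invN_lt k) z hz, D.memA _ (mulN_lt (invN_lt k) z),
                mulN_mod, invN_mod, hkz]
              have hall : ((List.range 8).all fun m => mul8 (inv8 m) m == 0) = true := by
                decide +kernel
              exact beq_iff_eq.1 (M24Sylow.of_all_range hall (parts_lt hz).2)
            rcases centralizer_mid (parts_lt hy).2 (parts_lt hz).2 hc hne with h | h | h | h
            · refine ⟨0, ?_⟩
              simpa [D.zero] using key 0 (by norm_num) (by simpa using h.symm)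
            · refine ⟨1, ?_⟩
              simpa using key y hy h.symm
            · refine ⟨2, ?_⟩
              have := key _ (mulN_lt hy y) (by rw [mulN_mod, h])
              rwa [D.mul y hy y hy, ← pow_two] at this
            · refine ⟨3, ?_⟩
              have := key _ (mulN_lt hy (mulN y y)) (by rw [mulN_mod, mulN_mod, h])
              rwa [D.mul y hy _ (mulN_lt hy y), D.mul y hy y hy, ← pow_two, ← pow_succ'] at this
          have hjH : φ y ^ j ∈ H := pow_mem hyH j
          set b := (φ y ^ j)⁻¹ * φ z with hb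
          have hbH : b ∈ H := mul_mem (inv_mem hjH) hs
          obtain ⟨v, hv, ev⟩ := D.exists_A hjA
          obtain ⟨-, hbc⟩ := hcomm b hbH _ (mk_lt hv (by norm_num)) ev
          have h5 : φ (M24SylowType.mk (dl (y % 8) v) 0) * φ y = φ y * φ (M24SylowType.mk (dl (y % 8) v) 0) := by
            rw [← D.comm_A hy hv, ← D.comm hy (mk_lt hv (by norm_num))]
            exact hbc _ hyH
          have h6 : dl (y % 8) (dl (y % 8) v) = 0 := by
            have h7 := D.comm_A hy (dl_lt (y % 8) hv)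
            rw [← h5, mul_inv_cancel_right, mul_inv_cancel] at h7
            have h8 := D.inj _ (mk_lt (dl_lt _ (dl_lt _ hv)) (by norm_num)) 0 (by norm_num)
              (h7.symm.trans D.zero.symm)
            have : 8 * dl (y % 8) (dl (y % 8) v) + 0 = 0 := h8
            omega
          have h9 := D.comm_A (mulN_lt hy y) hv
          rw [mulN_mod, dl_square (parts_lt hy).2 hv h6, show φ (M24SylowType.mk 0 0) = 1 from D.zero,
            mul_inv_eq_one, mul_inv_eq_iff_eq_mul, D.mul y hy y hy, ev] at h9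
          have e2 : φ z = φ y ^ j * b := by rw [hb, mul_inv_cancel_left]
          rw [e2, ← mul_assoc, ← pow_two, (Commute.pow_pow_self (φ y) 2 j).eq, mul_assoc, pow_two,
            h9, ← mul_assoc]
        rw [← D.mul y hy y hy, D.memA _ (mulN_lt hy y), mulN_mod] at h4
        exact hne h4
      refine mem_center_iff.2 fun s => Subtype.ext ?_
      show (s : G) * ((x : G)⁻¹ * (φ (M24SylowType.mk w 0) * (x : G) * (φ (M24SylowType.mk w 0))⁻¹)) =
        (x : G)⁻¹ * (φ (M24SylowType.mk w 0) * (x : G) * (φ (M24SylowType.mk w 0))⁻¹) * s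
      rw [conj_quot]
      have hd' : (x : G)⁻¹ * φ (M24SylowType.mk w 0) * x * (φ (M24SylowType.mk w 0))⁻¹ = φ (M24SylowType.mk (dl (y % 8) w) 0) := by
        rw [← D.comm_A hy hw, e, inv_inv]
      rw [hd']
      obtain ⟨z, hz, ez⟩ := (D.mem (s : G)).1 (hg.1 s.2)
      obtain ⟨hc, -⟩ := hcomm _ s.2 z hz ez
      have h1 := D.comm_A hz (dl_lt (y % 8) hw)
      rw [dl_invol (parts_lt hz).2 (parts_lt hy).2 hw hc hsq, show φ (M24SylowType.mk 0 0) = 1 from D.zero,
        mul_inv_eq_one, mul_inv_eq_iff_eq_mul, ez] at h1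
      exact h1
    · rw [Subgroup.mem_upperCentralSeries_succ_iff]
      intro s
      rw [Subgroup.upperCentralSeries_one]
      obtain ⟨y, hy, e⟩ := (D.mem (x : G)⁻¹).1 (hg.1 (inv_mem x.2))
      obtain ⟨z, hz, ez⟩ := (D.mem (s : G)).1 (hg.1 s.2)
      have hd' : (x : G)⁻¹ * φ (M24SylowType.mk w 0) * x * (φ (M24SylowType.mk w 0))⁻¹ = φ (M24SylowType.mk (dl (y % 8) w) 0) := by
        rw [← D.comm_A hy hw, e, inv_inv]
      set d := φ (M24SylowType.mk (dl (y % 8) w) 0)
      have h1 : (s : G) * d * (s : G)⁻¹ * d⁻¹ = φ (M24SylowType.mk (dl (z % 8) (dl (y % 8) w)) 0) := by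
        rw [← ez]; exact D.comm_A hz (dl_lt _ hw)
      have h2 := D.central_in hg (dl_lt (z % 8) (dl_lt (y % 8) hw))
        fun n hn => dl_three hn (parts_lt hz).2 (parts_lt hy).2 hw
      refine mem_center_iff.2 fun r => Subtype.ext ?_
      simp only [Subgroup.coe_mul, Subgroup.coe_inv, commutatorElement_def, conj_quot, hd']
      have h3 : d * (s : G) * d⁻¹ * (s : G)⁻¹ = ((s : G) * d * (s : G)⁻¹ * d⁻¹)⁻¹ := by group
      rw [h3, h1]
      exact ((show Commute (φ (M24SylowType.mk (dl (z % 8) (dl (y % 8) w)) 0)) (r : G) from h2.2 _ r.2).inv_left).eq.symm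

end Cfsg.Agent.M24SylowType
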