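import Cfsg.Agent.Lib.M24SylowType.RowData

set_option autoImplicit false
set_option maxRecDepth 8000

namespace Cfsg.Agent.M24SylowType

theorem check0 : families0.all checkFamily = true := by decide +kernel

end Cfsg.Agent.M24SylowType
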