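import Cfsg.Agent.Lib.M24SylowType.Codes
import Cfsg.Agent.Lib.M24SylowType.RowCheck0
import Cfsg.Agent.Lib.M24SylowType.RowCheck1
import Cfsg.Agent.Lib.Signalizer.Transitivity

/-!
A link has no central element outside the abelian subgroup of order 64.

* `central_mem` : central elements of a link lie in the abelian subgroup
-/

set_option autoImplicit false
set_option linter.unusedSectionVars false
set_option linter.style.haveILetI false

namespace Cfsg.Agent.M24SylowType

open Cfsg Subgroup Cfsg.Agent.StrongAlperin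

variable {G : Type*} [Group G] [Finite G] {A : Subgroup G} {φ : ℕ → G} {P : Sylow 2 G}

theorem checkFamily_of_mem {F : Family} (h : F ∈ families) : checkFamily F = true := by
  rcases List.mem_append.1 h with h | h
  · exact List.all_eq_true.1 check0 F h
  · exact List.all_eq_true.1 check1 F h

theorem wit_lt (x : ℕ) : wit x < 512 := Nat.lt_succ_of_le Nat.and_le_right

theorem wit_spec {x : ℕ} (hx : x < 512) (h8 : x % 8 ≠ 0) :
    ∃ F ∈ families, F.u = conjN (wit x) x := by
  have h : (M24Sylow.all512 fun x => x % 8 == 0 ||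
      families.any fun F => F.u == conjN (wit x) x) = true := by decide +kernel
  have h' := M24Sylow.of_all512 h hx
  simp only [Bool.or_eq_true, beq_iff_eq, List.any_eq_true] at h'
  exact h'.resolve_left h8

theorem Setup.card_gen (D : Setup (P : Subgroup G) A φ) {gens : List ℕ}
    (hc : closedOK gens (span gens) = true) :
    Nat.card ↥(gen φ gens) = (span gens).1.length := by
  obtain ⟨-, hnd, hlt, hiff, hall⟩ := D.span_spec hc
  have hset : (gen φ gens : Set G) = φ '' {x | x ∈ (span gens).1} := by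
    ext s
    constructor
    · intro hs
      obtain ⟨x, hx, e⟩ := hall s hs
      exact ⟨x, hx, e⟩
    · rintro ⟨x, hx, rfl⟩
      exact (hiff x (hlt x hx)).2 hx
  have hinj : Set.InjOn φ {x | x ∈ (span gens).1} :=
    fun a ha b hb e => D.inj a (hlt a ha) b (hlt b hb) e
  show Nat.card ↥((gen φ gens : Subgroup G) : Set G) = _
  rw [hset, Nat.card_image_of_injOn hinj, ← List.toFinset_card_of_nodup hnd,
    ← Nat.card_eq_finsetCard]
  exact Nat.card_congr (Equiv.subtypeEquivRight fun y => by simp)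

theorem family_false (D : Setup (P : Subgroup G) A φ) {H : Subgroup G}
    (hg : Good 2 (P : Subgroup G) H) {F : Family} (hF : checkFamily F = true)
    (hc : ∀ t ∈ H, φ F.u * t = t * φ F.u) : False := by
  haveI : Fact (Nat.Prime 2) := ⟨Nat.prime_two⟩
  simp only [checkFamily, checkBase, Bool.and_eq_true, List.all_eq_true, List.any_eq_true,
    Nat.blt_eq, Nat.beq_eq] at hF
  obtain ⟨⟨⟨⟨⟨⟨⟨hu5, hcent⟩, hcl⟩, hgc⟩, hreps⟩, hcov⟩, K₀, hK₀, hK₀m⟩, hrows⟩ := hF
  have hHcent : ∀ y < 512, φ y ∈ H → has F.cent y = true := fun y hy hyH => by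
    rw [beq_iff_eq.1 (M24Sylow.of_all512 hcent hy)]
    exact (D.commutes_iff hy hu5).2 (hc _ hyH).symm
  have hZ : gen φ F.gens ≤ H := (closure_le _).2 (by
    rintro _ ⟨z, hz, rfl⟩
    have hz5 : z < 512 := Setup.gens_lt hcl z hz
    refine hg.2.2.1 ⟨D.phi_mem hz5, mem_centralizer_iff.2 fun t ht => ?_⟩
    obtain ⟨y, hy, rfl⟩ := (D.mem t).1 (hg.1 ht)
    have := M24Sylow.of_all512 (hgc z hz) hy
    rw [hHcent y hy ht] at this
    exact (D.commutes_iff hy hz5).1 (by simpa using this))
  obtain ⟨hm₀, -, hlt₀, hiff₀, -⟩ := D.span_spec hcl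
  have hrow : ∀ R ∈ F.rows, closedOK R.gens (span R.gens) = true ∧ (span R.gens).2 = R.mask ∧
      Nat.card ↥(gen φ R.gens) = R.len ∧
      (∀ x < 512, (φ x ∈ gen φ R.gens ↔ has R.mask x = true)) := by
    intro R hR
    have h := hrows R hR
    simp only [checkRow, Bool.and_eq_true, Nat.beq_eq] at h
    obtain ⟨⟨⟨⟨h1, h2⟩, h3⟩, -⟩, -⟩ := h
    refine ⟨h1, h2, by rw [D.card_gen h1, h3], fun x hx => ?_⟩
    obtain ⟨hm, -, -, hiff, -⟩ := D.span_spec h1
    rw [hiff x hx, ← h2, hm]
  have key : ∀ (n : ℕ), ∀ R ∈ F.rows, gen φ F.gens ≤ gen φ R.gens → gen φ R.gens ≤ H →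
      Nat.card G < Nat.card ↥(gen φ R.gens) + n → False := by
    intro n
    induction n with
    | zero =>
      intro R _ _ _ h
      have := Nat.le_of_dvd Nat.card_pos (Subgroup.card_subgroup_dvd_card (gen φ R.gens))
      omega
    | succ n ih =>
      intro R hR hZR hRH hn
      obtain ⟨hc1, hm, hlen, hiff⟩ := hrow R hR
      have h := hrows R hR
      simp only [checkRow, Bool.and_eq_true, List.all_eq_true, Bool.or_eq_true, Bool.not_eq_true',
        List.any_eq_true, Nat.beq_eq] at h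
      obtain ⟨⟨-, hv⟩, hnext⟩ := h
      rcases eq_or_ne (gen φ R.gens) H with he | hne
      · exact verdict_false D hg hc1 he.symm hm.symm hv
      set R₀ := gen φ R.gens with hR₀
      obtain ⟨t, htH, htN, htR⟩ :=
        Signalizer.exists_mem_normalizer_not_mem (P.isPGroup'.to_le hg.1) hRH hne
      obtain ⟨k, hk⟩ := P.isPGroup' ⟨t, hg.1 htH⟩
      have hk' : t ^ 2 ^ k ∈ R₀ := by
        have := congrArg Subtype.val hk
        simp only [SubmonoidClass.coe_pow, OneMemClass.coe_one] at this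
        rw [this]; exact one_mem _
      obtain ⟨s, hsH, hsN, hsR, hs2⟩ : ∃ s, s ∈ H ∧ s ∈ normalizer (R₀ : Set G) ∧ s ∉ R₀ ∧
          s * s ∈ R₀ := by
        clear hk
        induction k with
        | zero => exact absurd (by simpa using hk') htR
        | succ k ihk =>
          by_cases hp : t ^ 2 ^ k ∈ R₀
          · exact ihk hp
          · exact ⟨_, pow_mem htH _, pow_mem htN _, hp, by
              rwa [← pow_two, ← pow_mul, ← pow_succ]⟩
      obtain ⟨y, hy, rfl⟩ := (D.mem s).1 (hg.1 hsH)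
      have hcv := M24Sylow.of_all512 hcov hy
      simp only [hHcent y hy hsH, Bool.not_true, Bool.false_or, List.any_eq_true] at hcv
      obtain ⟨c, hc', hcy⟩ := hcv
      have hc5 : c < 512 := hreps c hc'
      have hz : (φ c)⁻¹ * φ y ∈ R₀ := by
        refine hZR ?_
        rw [← D.inv hc5, ← D.mul _ (invN_lt c) y hy,
          hiff₀ _ (mulN_lt (invN_lt c) y)]
        exact (hm₀ _).1 hcy
      have hce : φ c = φ y * ((φ c)⁻¹ * φ y)⁻¹ := by group
      have hcN : φ c ∈ normalizer (R₀ : Set G) := by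
        rw [hce]; exact mul_mem hsN (le_normalizer (inv_mem hz))
      have hcR : φ c ∉ R₀ := fun h => hsR (by
        have := mul_mem h hz
        rwa [mul_inv_cancel_left] at this)
      have hcc : φ c * φ c ∈ R₀ := by
        have e : φ c * φ c = φ y * φ y * ((φ y)⁻¹ * ((φ c)⁻¹ * φ y)⁻¹ * φ y) *
            ((φ c)⁻¹ * φ y)⁻¹ := by group
        rw [e]
        exact mul_mem (mul_mem hs2 ((mem_normalizer_iff''.1 hsN _).1 (inv_mem hz))) (inv_mem hz)
      have hgR : ∀ h ∈ R.gens, φ h ∈ R₀ := fun h hh => subset_closure ⟨h, hh, rfl⟩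
      have hgl := Setup.gens_lt hc1
      rcases hnext c hc' with (hn' | hn') | ⟨K, hK, hK'⟩
      · have : normalises R.gens R.mask c = true := by
          simp only [normalises, Bool.and_eq_true, Nat.blt_eq, Bool.not_eq_true', List.all_eq_true]
          refine ⟨⟨hc5, Bool.eq_false_iff.2 fun h => hcR ((hiff c hc5).2 h)⟩, fun h hh => ?_⟩
          rw [← hiff _ (conjN_lt hc5 h), D.conj hc5 (hgl h hh)]
          exact (mem_normalizer_iff.1 hcN _).1 (hgR h hh)
        rw [this] at hn'
        exact Bool.noConfusion hn'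
      · rw [← D.mul c hc5 c hc5, hiff _ (mulN_lt hc5 c), hn'] at hcc
        exact Bool.noConfusion hcc
      · obtain ⟨⟨hKlen, hKc⟩, hKg⟩ := hK'
        obtain ⟨-, -, hKcard, hKiff⟩ := hrow K hK
        have hRK : R₀ ≤ gen φ K.gens := (closure_le _).2 (by
          rintro _ ⟨h, hh, rfl⟩
          exact (hKiff h (hgl h hh)).2 (hKg h hh))
        set M := R₀ ⊔ zpowers (φ c) with hM
        have hMK : M ≤ gen φ K.gens := sup_le hRK (zpowers_le.2 ((hKiff c hc5).2 hKc))
        have hRM : R₀ < M := lt_of_le_of_ne le_sup_left fun e =>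
          hcR (e ▸ mem_sup_right (mem_zpowers (φ c)))
        have hcard : Nat.card ↥(gen φ K.gens) = 2 * Nat.card ↥R₀ := by
          rw [hKcard, hlen, hKlen]
          rfl
        have hMcard : 2 * Nat.card ↥R₀ ≤ Nat.card ↥M := by
          obtain ⟨d, hd⟩ := Subgroup.card_dvd_of_le hRM.le
          have h1 : Nat.card ↥R₀ < Nat.card ↥M := by
            refine lt_of_not_ge fun hle => hRM.ne ?_
            exact Subgroup.eq_of_le_of_card_ge hRM.le hle
          rw [hd] at h1 ⊢
          rcases d with _ | _ | d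
          · simp at h1
          · simp at h1
          · rw [mul_comm]; exact Nat.mul_le_mul_left _ (by omega)
        have hMeq : M = gen φ K.gens := Subgroup.eq_of_le_of_card_ge hMK (hcard ▸ hMcard)
        have hcH : φ c ∈ H := by
          rw [hce]; exact mul_mem hsH (inv_mem (hRH hz))
        refine ih K hK (hZR.trans hRK) (hMeq ▸ sup_le hRH (zpowers_le.2 hcH)) ?_
        have := Nat.card_pos (α := ↥R₀)
        omega
  obtain ⟨hc0, hm0, -, -⟩ := hrow K₀ hK₀
  have hKZ : gen φ K₀.gens = gen φ F.gens := by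
    obtain ⟨hmK, -, hltK, hiffK, hallK⟩ := D.span_spec hc0
    obtain ⟨-, -, -, -, hall₀⟩ := D.span_spec hcl
    refine le_antisymm (fun s hs => ?_) (fun s hs => ?_)
    · obtain ⟨x, hx, rfl⟩ := hallK s hs
      rw [hiff₀ x (hltK x hx), ← hm₀, ← hK₀m, ← hm0, hmK]
      exact hx
    · obtain ⟨x, hx, rfl⟩ := hall₀ s hs
      rw [hiffK x (hlt₀ x hx), ← hmK, hm0, hK₀m, hm₀]
      exact hx
  exact key (Nat.card G) K₀ hK₀ hKZ.ge (hKZ ▸ hZ)
    (lt_add_of_pos_left _ Nat.card_pos)

/-- Central elements of a link lie in the abelian subgroup. -/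
theorem central_mem (D : Setup (P : Subgroup G) A φ) {H : Subgroup G}
    (hg : Good 2 (P : Subgroup G) H) {t : G} (ht : t ∈ H) (hc : ∀ s ∈ H, t * s = s * t) : t ∈ A := by
  haveI : Fact (Nat.Prime 2) := ⟨Nat.prime_two⟩
  obtain ⟨x, hx, rfl⟩ := (D.mem t).1 (hg.1 ht)
  by_contra hA
  rw [D.memA x hx] at hA
  obtain ⟨F, hF, hFu⟩ := wit_spec hx hA
  have hw := wit_lt x
  have hwP : φ (wit x) ∈ (P : Subgroup G) := D.phi_mem hw
  have he : (P : Subgroup G).map (MulAut.conj (φ (wit x))).toMonoidHom = P := by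
    refine le_antisymm ?_ fun p hp => ?_
    · rintro _ ⟨p, hp, rfl⟩
      exact mul_mem (mul_mem hwP hp) (inv_mem hwP)
    · exact ⟨(φ (wit x))⁻¹ * p * φ (wit x), mul_mem (mul_mem (inv_mem hwP) hp) hwP, by
        simp [mul_assoc]⟩
  have hux : φ F.u = MulAut.conj (φ (wit x)) (φ x) := by
    rw [hFu, D.conj hw hx, MulAut.conj_apply]
  refine family_false D (hg.map (MulAut.conj (φ (wit x))) he) (checkFamily_of_mem hF) ?_
  rintro _ ⟨s, hs, rfl⟩
  rw [hux]
  show MulAut.conj (φ (wit x)) (φ x) * MulAut.conj (φ (wit x)) s =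
    MulAut.conj (φ (wit x)) s * MulAut.conj (φ (wit x)) (φ x)
  rw [← map_mul, hc s hs, map_mul]

end Cfsg.Agent.M24SylowType
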