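import Cfsg.Agent.Lib.M24SylowType.Normal
import Cfsg.Agent.Lib.PQAutomizer.Key
import Cfsg.Agent.Lib.PGroup.Basic

/-!
The central extension: the extraspecial subgroup of order 128 is normal.

* `normal_extraspecial_of_threeInv` : normality, given the theorem on three classes of involutions
-/

set_option autoImplicit false
set_option linter.unusedSectionVars false
set_option linter.style.haveILetI false

namespace Cfsg.Agent.M24SylowType

open Cfsg Subgroup
open scoped commutatorElement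

theorem card_center_sylow (P : Sylow 2 ↥Cfsg.M24) :
    Nat.card ↥(center ↥(P : Subgroup ↥Cfsg.M24)) = 2 := by
  obtain ⟨e, -, hinj, hsurj⟩ := M24Sylow.exists_model P
  obtain ⟨ψ, hψ⟩ := M24Sylow.coord P
  have hP : Nat.card ↥(P : Subgroup ↥Cfsg.M24) = 1024 := by
    rw [← Nat.card_eq_of_bijective (fun a : Fin 1024 => e a)
      ⟨fun a b h => Fin.ext (hinj _ a.2 _ b.2 h), fun x => by
        obtain ⟨a, ha, rfl⟩ := hsurj x
        exact ⟨⟨a, ha⟩, rfl⟩⟩]
    simp
  have h := card_eq_card_quotient_mul_card_subgroup (center ↥(P : Subgroup ↥Cfsg.M24))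
  rw [hP, hψ.natCard] at h
  omega

universe u

/-- The statement of S3170, given the theorem on three classes of involutions. -/
theorem normal_extraspecial_of_threeInv (hTI : Goldschmidt.ThreeInv.ThreeInvTarget.{u})
    {H : Type u} [Group H] [Finite H] (hO : Cfsg.oddCore H = ⊥) (T : Sylow 2 H) (P : Sylow 2 ↥Cfsg.M24)
    (hT : Nonempty (↥(T : Subgroup H) ≃* ↥(P : Subgroup ↥Cfsg.M24)))
    (hZ : ∀ z ∈ (T : Subgroup H), (∀ t ∈ (T : Subgroup H), z * t = t * z) → z ∈ Subgroup.center H)
    (E : Subgroup H) (hE : E ≤ (T : Subgroup H)) (hEn : (E.subgroupOf (T : Subgroup H)).Normal)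
    (hEx : Cfsg.IsExtraspecial 2 ↥E) (hE7 : Nat.card ↥E = 2 ^ 7) : E.Normal := by
  haveI : Fact (Nat.Prime 2) := ⟨Nat.prime_two⟩
  obtain ⟨e⟩ := hT
  set Z : Subgroup H := (center ↥(T : Subgroup H)).map (T : Subgroup H).subtype with hZdef
  have hZc : Z ≤ center H := by
    rintro _ ⟨z, hz, rfl⟩
    exact hZ z z.2 fun t ht => congrArg Subtype.val (mem_center_iff.1 hz ⟨t, ht⟩).symm
  haveI hZn : Z.Normal := ⟨fun z hz g => by
    rw [mem_center_iff.1 (hZc hz) g, mul_inv_cancel_right]; exact hz⟩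
  have hZT : Z ≤ (T : Subgroup H) := map_subtype_le _
  have hcmap : (center ↥(T : Subgroup H)).map e.toMonoidHom = center ↥(P : Subgroup ↥Cfsg.M24) := by
    ext x
    rw [mem_map_equiv, mem_center_iff, mem_center_iff]
    constructor
    · intro h y
      refine e.symm.injective ?_
      rw [map_mul, map_mul]
      exact h _
    · intro h y
      refine e.injective ?_
      rw [map_mul, map_mul, e.apply_symm_apply]
      exact h _
  have hZcard : Nat.card ↥Z = 2 := by
    rw [← card_center_sylow P, ← hcmap,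
      Nat.card_congr ((center ↥(T : Subgroup H)).equivMapOfInjective e.toMonoidHom e.injective).toEquiv.symm,
      Nat.card_congr ((center ↥(T : Subgroup H)).equivMapOfInjective _
        (T : Subgroup H).subtype_injective).toEquiv.symm]
  obtain ⟨⟨-, -, hder⟩, hcE⟩ := hEx
  -- the centre of the extraspecial subgroup
  have hZE : Z = (center ↥E).map E.subtype := by
    have h1 : E.subgroupOf (T : Subgroup H) ≠ ⊥ := fun h => by
      have := Nat.card_congr (subgroupOfEquivOfLe hE).toEquiv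
      rw [h, card_bot, hE7] at this
      norm_num at this
    obtain ⟨⟨x, hxE, hxc⟩, hx1⟩ : ∃ x : ↥(E.subgroupOf (T : Subgroup H) ⊓ center ↥(T : Subgroup H) :
        Subgroup ↥(T : Subgroup H)), x ≠ 1 := by
      haveI := hEn
      have := PGroup.inf_center_ne_bot T.isPGroup' (N := E.subgroupOf (T : Subgroup H)) h1
      obtain ⟨a, ha, ha1⟩ := (bot_or_exists_ne_one _).resolve_left this
      exact ⟨⟨a, ha⟩, fun h => ha1 (congrArg Subtype.val h)⟩
    refine Eq.symm (Subgroup.eq_of_le_of_card_ge ?_ ?_)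
    · rintro _ ⟨z, hz, rfl⟩
      have hxZ : (x : H) ∈ Z := ⟨x, hxc, rfl⟩
      have hxEc : (⟨x, hxE⟩ : ↥E) ∈ center ↥E := mem_center_iff.2 fun y =>
        Subtype.ext (mem_center_iff.1 (hZc hxZ) y)
      have hx1' : (⟨⟨x, hxE⟩, hxEc⟩ : ↥(center ↥E)) ≠ 1 := fun h => hx1 (by
        refine Subtype.ext (Subtype.ext ?_)
        exact congrArg (fun w : ↥(center ↥E) => ((w : ↥E) : H)) h)
      obtain ⟨n, hn⟩ := Subgroup.mem_zpowers_iff.1
        (mem_zpowers_of_prime_card (p := 2) hcE hx1' (g' := ⟨z, hz⟩))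
      have hn' := congrArg (fun w : ↥(center ↥E) => ((w : ↥E) : H)) hn
      simp only [SubgroupClass.coe_zpow] at hn'
      show (z : H) ∈ Z
      rw [← hn']
      exact zpow_mem hxZ n
    · rw [hZcard, Nat.card_congr ((center ↥E).equivMapOfInjective _ E.subtype_injective).toEquiv.symm, hcE]
  set f := QuotientGroup.mk' Z with hf
  have hfs : Function.Surjective f := QuotientGroup.mk'_surjective Z
  let S : Sylow 2 (H ⧸ Z) := T.mapSurjective hfs
  -- the quotient of the Sylow subgroup
  let g : ↥(T : Subgroup H) →* ↥((T : Subgroup H).map f) := f.subgroupMap (T : Subgroup H)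
  have hgk : g.ker = center ↥(T : Subgroup H) := by
    ext x
    rw [MonoidHom.mem_ker, ← Subtype.coe_inj]
    show f (x : H) = 1 ↔ _
    rw [hf, QuotientGroup.mk'_apply, QuotientGroup.eq_one_iff]
    exact ⟨fun ⟨z, hz, h⟩ => (Subtype.ext h : z = x) ▸ hz, fun h => ⟨x, h, rfl⟩⟩
  have hiso : Nonempty (↥(S : Subgroup (H ⧸ Z)) ≃*
      (↥(P : Subgroup ↥Cfsg.M24) ⧸ center ↥(P : Subgroup ↥Cfsg.M24))) :=
    ⟨((QuotientGroup.quotientKerEquivOfSurjective g (f.subgroupMap_surjective _)).symm.trans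
      (QuotientGroup.quotientMulEquivOfEq hgk)).trans
      (QuotientGroup.congr _ _ e hcmap)⟩
  have hO' : Cfsg.oddCore (H ⧸ Z) = ⊥ :=
    PQAutomizer.pPrimeCore_quotient_central hO ((IsPGroup.of_card (n := 1) (by rw [hZcard]; norm_num))) hZc
  have hAc : IsMulCommutative ↥(E.map f) := by
    refine ⟨⟨fun a b => Subtype.ext ?_⟩⟩
    obtain ⟨x, hx, hxa⟩ := a.2
    obtain ⟨y, hy, hyb⟩ := b.2
    show (a : H ⧸ Z) * b = b * a
    rw [← hxa, ← hyb, ← map_mul, ← map_mul, hf, QuotientGroup.mk'_apply, QuotientGroup.mk'_apply,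
      QuotientGroup.eq, hZE]
    refine ⟨⁅(⟨y, hy⟩ : ↥E)⁻¹, (⟨x, hx⟩ : ↥E)⁻¹⁆, hder ▸ commutator_mem_commutator (mem_top _) (mem_top _), ?_⟩
    simp [commutatorElement_def, mul_assoc]
  have hA64 : Nat.card ↥(E.map f) = 64 := by
    have h1 := card_mul_index (Z.subgroupOf E)
    have hle : Z ≤ E := hZE.le.trans (map_subtype_le _)
    rw [Nat.card_congr (subgroupOfEquivOfLe hle).toEquiv, hZcard, hE7] at h1
    have h2 := relIndex_ker f (K := E)
    rw [hf, QuotientGroup.ker_mk'] at h2
    rw [hf, ← h2]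
    show (Z.subgroupOf E).index = 64
    omega
  have hAn := normal_of_threeInv hTI hO' S P hiso (E.map f) (map_mono hE) hAc hA64
  have hle : f.ker ≤ E := by
    rw [hf, QuotientGroup.ker_mk', hZE]; exact map_subtype_le _
  rw [← comap_map_eq_self hle]
  exact hAn.comap f

end Cfsg.Agent.M24SylowType
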