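import Cfsg.Agent.Lib.StrongAlperin.Main
import Cfsg.Agent.Lib.FusionChain.Stabilizer
import Cfsg.Agent.Lib.Involution.StronglyEmbedded

/-!
Properties of the subgroups allowed as links in the Alperin-Goldschmidt theorem at the prime two.

* `stab_mem` : elements stabilising a characteristic chain lie in the subgroup
* `card_fixed_eq` : two involutions of the automiser fix equally many cosets of a characteristic subgroup
-/

set_option autoImplicit false
set_option linter.unusedSectionVars false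
set_option linter.style.haveILetI false

namespace Cfsg.Agent.M24SylowType

open Cfsg Subgroup Cfsg.Agent.StrongAlperin

variable {G : Type*} [Group G] [Finite G]

theorem mem_of_mem_sup_centralizer {S H : Subgroup G} (hg : Good 2 S H) {g : G} (hgS : g ∈ S)
    (h : g ∈ H ⊔ centralizer (H : Set G)) : g ∈ H := by
  have hn : centralizer (H : Set G) ≤ normalizer (H : Set G) := centralizer_le_normalizer _
  obtain ⟨x, hx, c, hc, rfl⟩ := (Coprime.mem_sup_iff hn).1 h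
  have : c ∈ S := by
    have := mul_mem (inv_mem (hg.1 hx)) hgS
    rwa [inv_mul_cancel_left] at this
  exact mul_mem hx (hg.2.2.1 ⟨this, hc⟩)

/-- An element of `S` stabilising a characteristic chain of a link lies in the link. -/
theorem stab_mem (S : Sylow 2 G) {H : Subgroup G} (hg : Good 2 (S : Subgroup G) H) {g : G}
    (hgS : g ∈ (S : Subgroup G)) (hgN : g ∈ normalizer (H : Set G))
    (n : ℕ) (U : ℕ → Subgroup ↥H) (h0 : U 0 = ⊥) (hn : U n = ⊤) (hmono : ∀ i < n, U i ≤ U (i + 1))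
    (hchar : ∀ i ≤ n, (U i).Characteristic)
    (hst : ∀ i < n, ∀ x ∈ U (i + 1),
      x⁻¹ * (⟨g * (x : G) * g⁻¹, (mem_normalizer_iff.1 hgN (x : G)).1 x.2⟩ : ↥H) ∈ U i) : g ∈ H := by
  haveI : Fact (Nat.Prime 2) := ⟨Nat.prime_two⟩
  set N := normalizer (H : Set G) with hNdef
  haveI : (H.subgroupOf N).Normal := normal_in_normalizer
  let φ : ↥N →* MulAut ↥H :=
    { toFun := fun m =>
        { toFun := fun x => ⟨(m : G) * (x : G) * (m : G)⁻¹, (mem_normalizer_iff.1 m.2 _).1 x.2⟩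
          invFun := fun x => ⟨(m : G)⁻¹ * (x : G) * (m : G), (mem_normalizer_iff''.1 m.2 _).1 x.2⟩
          left_inv := fun x => Subtype.ext (by simp [mul_assoc])
          right_inv := fun x => Subtype.ext (by simp [mul_assoc])
          map_mul' := fun x y => Subtype.ext (by simp [mul_assoc]) }
      map_one' := MulEquiv.ext fun x => Subtype.ext (by simp)
      map_mul' := fun a b => MulEquiv.ext fun x => Subtype.ext (by simp [mul_assoc]) }
  have hH2 : IsPGroup 2 ↥H := S.isPGroup'.to_le hg.1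
  have hmem : (⟨φ ⟨g, hgN⟩, ⟨g, hgN⟩, rfl⟩ : φ.range) ∈ Cfsg.pCore 2 φ.range := by
    refine FusionChain.mem_pCore_of_stabilizes_chain hH2 φ.range n U h0 hn hmono ?_ _ hst
    intro a _ i hi x hx
    have h := characteristic_iff_comap_eq.1 (hchar i hi) a
    rw [← h] at hx
    exact hx
  set K : Subgroup ↥N := (Cfsg.pCore 2 φ.range).comap φ.rangeRestrict with hK
  haveI : (Cfsg.pCore 2 φ.range).Normal := Cores.pCore_normal 2 _
  haveI hKn : K.Normal := inferInstanceAs (Subgroup.comap _ _).Normal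
  have hker : φ.ker ≤ (Cfsg.pPrimePCore 2 ↥N) := by
    intro m hm
    have hc : (m : G) ∈ centralizer (H : Set G) := mem_centralizer_iff.2 fun x hx => by
      have h1 := congrArg (fun f : MulAut ↥H => ((f ⟨x, hx⟩ : ↥H) : G)) (MonoidHom.mem_ker.1 hm)
      simp only [φ, MonoidHom.coe_mk, OneHom.coe_mk, MulEquiv.coe_mk, Equiv.coe_fn_mk,
        MulAut.one_apply] at h1
      conv_lhs => rw [← h1]
      group
    have h2 : (m : G) ∈ (Cfsg.pPrimePCore 2 ↥N).map N.subtype := by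
      rw [hg.2.2.2.1]; exact mem_sup_right hc
    obtain ⟨m', hm', e⟩ := h2
    rwa [← Subtype.ext e]
  have hKle : K ≤ Cfsg.pPrimePCore 2 ↥N := by
    set π := QuotientGroup.mk' (Cfsg.pPrimeCore 2 ↥N)
    haveI : (K.map π).Normal := hKn.map π (QuotientGroup.mk'_surjective _)
    haveI hY : (Cfsg.pPrimePCore 2 ↥N).Normal := HallHigman.pPrimePCore_normal 2 ↥N
    have hY2 : IsPGroup 2 ↥((Cfsg.pPrimePCore 2 ↥N).map π) := by
      rw [Cfsg.pPrimePCore, map_comap_eq_self_of_surjective (QuotientGroup.mk'_surjective _)]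
      exact Cores.isPGroup_pCore 2 _
    refine map_le_iff_le_comap.1 (Cores.le_pCore (hKn.map π (QuotientGroup.mk'_surjective _)) ?_)
    rintro ⟨_, m, hm, rfl⟩
    obtain ⟨k, hk⟩ := Cores.isPGroup_pCore 2 φ.range ⟨φ.rangeRestrict m, hm⟩
    have hmk : m ^ 2 ^ k ∈ φ.ker := by
      have := congrArg (fun z : Cfsg.pCore 2 φ.range => ((z : φ.range) : MulAut ↥H)) hk
      rw [MonoidHom.mem_ker, map_pow]
      simpa using this
    obtain ⟨j, hj⟩ := hY2 ⟨π (m ^ 2 ^ k), mem_map_of_mem π (hker hmk)⟩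
    refine ⟨k + j, Subtype.ext ?_⟩
    have hj' := congrArg Subtype.val hj
    simpa [π, pow_add, pow_mul, map_pow] using hj'
  have h3 : g ∈ (Cfsg.pPrimePCore 2 ↥N).map N.subtype := ⟨⟨g, hgN⟩, hKle hmem, rfl⟩
  rw [hg.2.2.2.1] at h3
  exact mem_of_mem_sup_centralizer hg hgS h3

/-- Two elements of `S` inducing involutions on a link fix equally many cosets of a characteristic
subgroup with abelian quotient. -/
theorem card_fixed_eq {S H : Subgroup G} (hg : Good 2 S H) (X : Subgroup G)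
    (hX : ∀ n ∈ normalizer (H : Set G), ∀ x ∈ X, n * x * n⁻¹ ∈ X)
    (hab : ∀ x ∈ H, ∀ y ∈ H, x * y * x⁻¹ * y⁻¹ ∈ X)
    {g₁ g₂ : G} (h1N : g₁ ∈ normalizer (H : Set G)) (h2N : g₂ ∈ normalizer (H : Set G))
    (h1 : g₁ ∉ H) (h2 : g₂ ∉ H) (h1s : g₁ * g₁ ∈ H) (h2s : g₂ * g₂ ∈ H) :
    Nat.card {x : G // x ∈ H ∧ g₁ * x * g₁⁻¹ * x⁻¹ ∈ X} =
      Nat.card {x : G // x ∈ H ∧ g₂ * x * g₂⁻¹ * x⁻¹ ∈ X} := by
  haveI : Fact (Nat.Prime 2) := ⟨Nat.prime_two⟩
  set N := normalizer (H : Set G) with hN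
  haveI : (H.subgroupOf N).Normal := normal_in_normalizer
  set π := QuotientGroup.mk' (H.subgroupOf N)
  obtain ⟨L, hL1, hL2, hL3⟩ := (S3056.result (G := ↥N ⧸ H.subgroupOf N) 2).1 hg.2.2.2.2
  have hSE : Cfsg.IsStronglyEmbedded L :=
    ⟨hL1, even_iff_two_dvd.2 hL2, fun a ha => Nat.not_even_iff_odd.1 fun he =>
      hL3 a ha (even_iff_two_dvd.1 he)⟩
  have hord : ∀ {a : G} (ha : a ∈ N), a ∉ H → a * a ∈ H → orderOf (π ⟨a, ha⟩) = 2 := by
    intro a ha haH hs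
    refine orderOf_eq_prime ?_ fun e => haH ?_
    · rw [pow_two, ← map_mul]
      exact (QuotientGroup.eq_one_iff _).2 hs
    · exact (QuotientGroup.eq_one_iff (⟨a, ha⟩ : ↥N)).1 e
  obtain ⟨q, hq⟩ := isConj_iff.1
    (Involution.isConj_involutions hSE (hord h1N h1 h1s) (hord h2N h2 h2s))
  obtain ⟨⟨n, hn⟩, rfl⟩ := QuotientGroup.mk'_surjective _ q
  rw [← map_inv, ← map_mul, ← map_mul] at hq
  have hh : (n * g₁ * n⁻¹)⁻¹ * g₂ ∈ H :=
    (QuotientGroup.eq.1 hq : (⟨n, hn⟩ * ⟨g₁, h1N⟩ * ⟨n, hn⟩⁻¹ : ↥N)⁻¹ * ⟨g₂, h2N⟩ ∈ H.subgroupOf N)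
  set d := (n * g₁ * n⁻¹)⁻¹ * g₂ with hd
  have hg2 : g₂ = n * g₁ * n⁻¹ * d := by rw [hd]; group
  have hn' : n⁻¹ ∈ N := inv_mem hn
  have hXmul : ∀ {a b : G}, a ∈ X → a * b ∈ X → b ∈ X := fun ha hb => by
    simpa using mul_mem (inv_mem ha) hb
  refine Nat.card_congr (Equiv.subtypeEquiv (MulAut.conj n).toEquiv fun x => ?_)
  show x ∈ H ∧ _ ↔ n * x * n⁻¹ ∈ H ∧ g₂ * (n * x * n⁻¹) * g₂⁻¹ * (n * x * n⁻¹)⁻¹ ∈ X
  rw [← mem_normalizer_iff.1 hn x]
  refine and_congr_right fun hx => ?_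
  set u := d * (n * x * n⁻¹) * d⁻¹ * (n * x * n⁻¹)⁻¹ with hu
  have huX : u ∈ X := hab d hh _ ((mem_normalizer_iff.1 hn x).1 hx)
  have hu' : n * g₁ * n⁻¹ * u * (n * g₁ * n⁻¹)⁻¹ ∈ X :=
    hX _ (mul_mem (mul_mem hn h1N) hn') u huX
  have key : g₂ * (n * x * n⁻¹) * g₂⁻¹ * (n * x * n⁻¹)⁻¹ =
      n * g₁ * n⁻¹ * u * (n * g₁ * n⁻¹)⁻¹ * (n * (g₁ * x * g₁⁻¹ * x⁻¹) * n⁻¹) := by
    rw [hg2, hu]; group
  rw [key]
  constructor
  · exact fun h => mul_mem hu' (hX n hn _ h)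
  · intro h
    have := hX _ hn' _ (hXmul hu' h)
    simpa [mul_assoc] using this

end Cfsg.Agent.M24SylowType
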