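import Cfsg.Agent.Lib.M24SylowType.Alpha
import Cfsg.Prelude.Def_TwoFusion

/-!
The abelian subgroup of order 64 is strongly closed.

* `exists_setup` : the numbering from an isomorphism with the central quotient
* `isStronglyClosed` : strong closure in every finite group
-/

set_option autoImplicit false
set_option linter.unusedSectionVars false
set_option linter.style.haveILetI false

namespace Cfsg.Agent.M24SylowType

open Cfsg Subgroup Cfsg.Agent.StrongAlperin

/-- The only abelian subgroup of order 64. -/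
def Only64 {G : Type*} [Group G] (S A : Subgroup G) : Prop :=
  IsMulCommutative ↥A ∧ Nat.card ↥A = 64 ∧
    ∀ B : Subgroup G, B ≤ S → IsMulCommutative ↥B → Nat.card ↥B = 64 → B = A

theorem coord_transport {S T : Type*} [Group S] [Group T] {ψ : ℕ → S} (h : M24Sylow.Coord ψ)
    (e : S ≃* T) : M24Sylow.Coord fun x => e (ψ x) where
  map_zero := by rw [h.map_zero, map_one]
  mul a ha b hb := by rw [h.mul a ha b hb, map_mul]
  inj a ha b hb he := h.inj a ha b hb (e.injective he)
  surj x := by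
    obtain ⟨a, ha, he⟩ := h.surj (e.symm x)
    exact ⟨a, ha, by rw [he, MulEquiv.apply_symm_apply]⟩
  step a ha k hk := by rw [h.step a ha k hk, map_mul]

variable {G : Type*} [Group G] [Finite G]

/-- The numbering of a Sylow subgroup isomorphic to the central quotient. -/
theorem exists_setup (S : Sylow 2 G) (P : Sylow 2 ↥Cfsg.M24)
    (hS : Nonempty (↥(S : Subgroup G) ≃* (↥(P : Subgroup ↥Cfsg.M24) ⧸ Subgroup.center ↥(P : Subgroup ↥Cfsg.M24))))
    {A : Subgroup G} (hA : A ≤ (S : Subgroup G)) (hAc : IsMulCommutative ↥A) (hA64 : Nat.card ↥A = 64) :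
    ∃ φ : ℕ → G, Setup (S : Subgroup G) A φ ∧ (∀ a ∈ A, a * a = 1) ∧ Only64 (S : Subgroup G) A := by
  obtain ⟨e⟩ := hS
  obtain ⟨ψ, hψ⟩ := M24Sylow.coord P
  have h := coord_transport hψ e.symm
  obtain ⟨φ, A₀, hn, h64, hc, hsq, hmem⟩ := exists_num h
  haveI := hc
  have hA' : A.subgroupOf (S : Subgroup G) = A₀ := h.abelian64_unique
    (Subgroup.subgroupOf_isMulCommutative (S : Subgroup G) A)
    (by rw [Nat.card_congr (subgroupOfEquivOfLe hA).toEquiv, hA64]) hc h64
  have hA0 : A = A₀.map (S : Subgroup G).subtype := by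
    rw [← hA', subgroupOf_map_subtype, inf_eq_left.2 hA]
  refine ⟨fun x => (φ x : G), ⟨?_, ?_, ?_, ?_, ?_, hA⟩, ?_, hAc, hA64, ?_⟩
  · rw [hn.zero]; rfl
  · intro x hx y hy
    rw [hn.mul x hx y hy]; rfl
  · exact fun x hx y hy he => hn.inj x hx y hy (Subtype.ext he)
  · intro s
    constructor
    · intro hs
      obtain ⟨x, hx, he⟩ := hn.surj ⟨s, hs⟩
      exact ⟨x, hx, congrArg Subtype.val he⟩
    · rintro ⟨x, -, rfl⟩
      exact (φ x).2
  · intro x hx
    rw [← hmem x hx, ← hA', mem_subgroupOf]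
  · intro a ha
    rw [hA0] at ha
    obtain ⟨b, hb, rfl⟩ := ha
    rw [← map_mul, hsq b hb, map_one]
  · intro B hB hBc hB64
    haveI := hBc
    have hB' : B.subgroupOf (S : Subgroup G) = A₀ := h.abelian64_unique
      (Subgroup.subgroupOf_isMulCommutative (S : Subgroup G) B)
      (by rw [Nat.card_congr (subgroupOfEquivOfLe hB).toEquiv, hB64]) hc h64
    rw [hA0, ← hB', subgroupOf_map_subtype, inf_eq_left.2 hB]

theorem Only64.conj {S A : Subgroup G} (h : Only64 S A) {x : G}
    (hx : A.map (MulAut.conj x).toMonoidHom ≤ S) : A.map (MulAut.conj x).toMonoidHom = A := by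
  haveI := h.1
  exact h.2.2 _ hx inferInstance (by
    rw [Nat.card_congr (A.equivMapOfInjective _ (MulAut.conj x).injective).toEquiv.symm, h.2.1])

theorem Only64.conj_mem {S A H : Subgroup G} (h : Only64 S A) (hH : H ≤ S) (hA : A ≤ H) {x : G}
    (hx : x ∈ normalizer (H : Set G)) {a : G} (ha : a ∈ A) : x⁻¹ * a * x ∈ A := by
  have h1 : A.map (MulAut.conj x⁻¹).toMonoidHom ≤ S := by
    rintro _ ⟨b, hb, rfl⟩
    exact hH ((mem_normalizer_iff.1 (inv_mem hx) b).1 (hA hb))
  rw [← h.conj h1]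
  exact ⟨a, ha, by simp⟩

variable {A : Subgroup G} {φ : ℕ → G} {S : Sylow 2 G}

/-- The abelian subgroup of order 64 is strongly closed. -/
theorem isStronglyClosed (D : Setup (S : Subgroup G) A φ) (h : Only64 (S : Subgroup G) A) :
    Cfsg.IsStronglyClosed A (S : Subgroup G) := by
  haveI : Fact (Nat.Prime 2) := ⟨Nat.prime_two⟩
  refine ⟨D.le, fun a ha g hg => ?_⟩
  have hsub : ({a} : Set G) ⊆ (S : Subgroup G) := Set.singleton_subset_iff.2 (D.le ha)
  have hsub' : cv g⁻¹ ({a} : Set G) ⊆ (S : Subgroup G) := by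
    rintro _ ⟨b, rfl, rfl⟩
    show g⁻¹⁻¹ * b * g⁻¹ ∈ (S : Subgroup G)
    rw [inv_inv]; exact hg
  obtain ⟨c, hc, y, hy, k, hk, e⟩ := reach_of_conj S {a} g⁻¹ hsub hsub'
  have key : ∀ (B : Set G) (z : G), KSteps 2 (S : Subgroup G) B z → B ⊆ A → cv z B ⊆ A := by
    intro B z hz
    induction hz with
    | nil B => intro hB; rwa [cv_one]
    | @cons B z H x hx hB _ ih =>
      intro hBA
      rw [← cv_cv]
      refine ih ?_
      rintro _ ⟨b, hb, rfl⟩
      exact h.conj_mem hx.1.1 (A_le_of_good D hx.1) hx.mem_normalizer (hBA hb)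
  set u := g * a * g⁻¹ with hu
  have h1 : u ∈ cv g⁻¹ ({a} : Set G) := ⟨a, rfl, by simp [hu]⟩
  rw [e, ← cv_cv, ← cv_cv, cv_of_centralizer hc] at h1
  obtain ⟨b, hb, hb'⟩ := h1
  rw [← hb']
  exact h.conj_mem le_rfl D.le hy (key _ k hk (by simpa using ha) hb)

end Cfsg.Agent.M24SylowType
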