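import Cfsg.Agent.Lib.M24SylowType.Rows
import Cfsg.Agent.Lib.M24SylowType.Chain

/-!
Translation between codes and elements.

* `Setup.conj`, `Setup.comm`, `Setup.commutes_iff`
* `Setup.verdict_false` : a subgroup with an accepted verdict is not a link
-/

set_option autoImplicit false
set_option linter.unusedSectionVars false
set_option linter.style.haveILetI false

namespace Cfsg.Agent.M24SylowType

open Cfsg Subgroup Cfsg.Agent.StrongAlperin

variable {G : Type*} [Group G] [Finite G] {S A : Subgroup G} {φ : ℕ → G}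

theorem Setup.phi_mem (D : Setup S A φ) {x : ℕ} (hx : x < 512) : φ x ∈ S := (D.mem _).2 ⟨x, hx, rfl⟩

theorem mulN_invN {x : ℕ} (hx : x < 512) : mulN x (invN x) = 0 := by
  have h : (M24Sylow.all512 fun x => mulN x (invN x) == 0) = true := by decide +kernel
  exact beq_iff_eq.1 (M24Sylow.of_all512 h hx)

theorem Setup.inv (D : Setup S A φ) {x : ℕ} (hx : x < 512) : φ (invN x) = (φ x)⁻¹ := by
  refine eq_inv_of_mul_eq_one_right ?_
  rw [← D.mul x hx _ (invN_lt x), mulN_invN hx, D.zero]

theorem conjN_lt {g : ℕ} (hg : g < 512) (h : ℕ) : conjN g h < 512 := mulN_lt (mulN_lt hg h) _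

theorem commN_lt {g : ℕ} (hg : g < 512) (h : ℕ) : commN g h < 512 := mulN_lt (conjN_lt hg h) _

theorem Setup.conj (D : Setup S A φ) {g h : ℕ} (hg : g < 512) (hh : h < 512) :
    φ (conjN g h) = φ g * φ h * (φ g)⁻¹ := by
  rw [conjN, D.mul _ (mulN_lt hg h) _ (invN_lt g), D.mul g hg h hh, D.inv hg]

theorem Setup.comm (D : Setup S A φ) {g h : ℕ} (hg : g < 512) (hh : h < 512) :
    φ (commN g h) = φ g * φ h * (φ g)⁻¹ * (φ h)⁻¹ := by
  rw [commN, D.mul _ (conjN_lt hg h) _ (invN_lt h), D.conj hg hh, D.inv hh]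

theorem Setup.commutes_iff (D : Setup S A φ) {g h : ℕ} (hg : g < 512) (hh : h < 512) :
    commutes g h = true ↔ φ g * φ h = φ h * φ g := by
  rw [commutes, Nat.beq_eq, ← D.mul g hg h hh, ← D.mul h hh g hg]
  exact ⟨fun e => e ▸ rfl, fun e => D.inj _ (mulN_lt hg h) _ (mulN_lt hh g) e⟩

/-- An element commuting with generators commutes with the subgroup. -/
theorem commute_gen {gens : List ℕ} {s : G} (h : ∀ g ∈ gens, s * φ g = φ g * s) {x : G}
    (hx : x ∈ gen φ gens) : s * x = x * s := by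
  have : gen φ gens ≤ centralizer ({s} : Set G) := (closure_le _).2 (by
    rintro _ ⟨g, hg, rfl⟩
    exact mem_centralizer_singleton_iff.2 (h g hg).symm)
  exact (mem_centralizer_singleton_iff.1 (this hx)).symm

theorem Setup.gens_lt {gens : List ℕ} (hc : closedOK gens (span gens) = true) : ∀ g ∈ gens, g < 512 := by
  simp only [closedOK, Bool.and_eq_true, List.all_eq_true] at hc
  exact fun g hg => by simpa [Nat.blt_eq] using hc.1 g hg

/-- The computed squares generate. -/
theorem Setup.squares_spec (D : Setup S A φ) {H : Subgroup G} {l : List ℕ} (hl : ∀ x ∈ l, x < 512)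
    (hH : ∀ s, s ∈ H ↔ ∃ x ∈ l, φ x = s) (hp : phiOK l (squares l) (span (squares l)) = true) :
    ∀ x < 512, (φ x ∈ Subgroup.closure ((fun h => h * h) '' (H : Set G)) ↔
      has (span (squares l)).2 x = true) := by
  simp only [phiOK, Bool.and_eq_true] at hp
  obtain ⟨hm, -, hlt, hiff, hall⟩ := D.span_spec hp.1
  have hsq : gen φ (squares l) = Subgroup.closure ((fun h => h * h) '' (H : Set G)) := by
    refine le_antisymm ((closure_le _).2 ?_) ((closure_le _).2 ?_)
    · rintro _ ⟨g, hg, rfl⟩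
      have key : ∀ (k : List ℕ) (st : List ℕ × ℕ), (∀ y ∈ k, y ∈ l) →
          (∀ y ∈ st.1, ∃ x ∈ l, mulN x x = y) →
          ∀ y ∈ (k.foldl (fun (st : List ℕ × ℕ) h => bif has st.2 (mulN h h) then st
            else (mulN h h :: st.1, Nat.lor st.2 (Nat.shiftLeft 1 (mulN h h)))) st).1,
          ∃ x ∈ l, mulN x x = y := by
        intro k
        induction k with
        | nil => exact fun st _ h => h
        | cons a k ih =>
          intro st hk h
          refine ih _ (fun y hy => hk y (List.mem_cons_of_mem _ hy)) ?_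
          rcases hb : has st.2 (mulN a a) with _ | _
          · simp only [hb, cond_false, List.mem_cons]
            rintro y (rfl | hy)
            · exact ⟨a, hk a List.mem_cons_self, rfl⟩
            · exact h y hy
          · simpa only [hb, cond_true] using h
      obtain ⟨x, hx, rfl⟩ := key l ([], 0) (fun y hy => hy) (by simp) g hg
      exact subset_closure ⟨φ x, (hH _).2 ⟨x, hx, rfl⟩, (D.mul x (hl x hx) x (hl x hx)).symm⟩
    · rintro _ ⟨s, hs, rfl⟩
      obtain ⟨x, hx, rfl⟩ := (hH _).1 hs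
      have := List.all_eq_true.1 hp.2 x hx
      show φ x * φ x ∈ gen φ (squares l)
      rw [← D.mul x (hl x hx) x (hl x hx)]
      exact (hiff _ (mulN_lt (hl x hx) x)).2 ((hm _).1 this)
  intro x hx
  rw [← hsq, hiff x hx, hm]

/-- Squares generate a subgroup containing the commutators. -/
theorem comm_mem_squares (H : Subgroup G) {x y : G} (hx : x ∈ H) (hy : y ∈ H) :
    x * y * x⁻¹ * y⁻¹ ∈ Subgroup.closure ((fun h => h * h) '' (H : Set G)) := by
  have sq : ∀ z ∈ H, z * z ∈ Subgroup.closure ((fun h => h * h) '' (H : Set G)) := fun z hz =>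
    subset_closure ⟨z, hz, rfl⟩
  have e : x * y * x⁻¹ * y⁻¹ =
      (x * y) * (x * y) * ((y⁻¹ * x⁻¹ * y) * (y⁻¹ * x⁻¹ * y)) * (y⁻¹ * y⁻¹) := by group
  rw [e]
  exact mul_mem (mul_mem (sq _ (mul_mem hx hy))
    (sq _ (mul_mem (mul_mem (inv_mem hy) (inv_mem hx)) hy))) (sq _ (inv_mem hy))

theorem squares_le (H : Subgroup G) : Subgroup.closure ((fun h => h * h) '' (H : Set G)) ≤ H :=
  (closure_le _).2 (by rintro _ ⟨s, hs, rfl⟩; exact mul_mem hs hs)

theorem squares_inv (H : Subgroup G) : ∀ n ∈ normalizer (H : Set G),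
    ∀ x ∈ Subgroup.closure ((fun h => h * h) '' (H : Set G)),
      n * x * n⁻¹ ∈ Subgroup.closure ((fun h => h * h) '' (H : Set G)) := by
  intro n hn x hx
  induction hx using Subgroup.closure_induction with
  | mem y hy =>
    obtain ⟨s, hs, rfl⟩ := hy
    refine subset_closure ⟨n * s * n⁻¹, (mem_normalizer_iff.1 hn s).1 hs, ?_⟩
    show n * s * n⁻¹ * (n * s * n⁻¹) = n * (s * s) * n⁻¹
    group
  | one => rw [mul_one, mul_inv_cancel]; exact one_mem _
  | mul y z _ _ hy hz => rw [show n * (y * z) * n⁻¹ = (n * y * n⁻¹) * (n * z * n⁻¹) by group]; exact mul_mem hy hz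
  | inv y _ hy => rw [show n * y⁻¹ * n⁻¹ = (n * y * n⁻¹)⁻¹ by group]; exact inv_mem hy

/-- A subgroup with an accepted verdict is not a link. -/
theorem verdict_false {P : Sylow 2 G} (D : Setup (P : Subgroup G) A φ) {H : Subgroup G}
    (hg : Good 2 (P : Subgroup G) H) {gens : List ℕ} (hc : closedOK gens (span gens) = true)
    (hH : H = gen φ gens) {m : ℕ} (hm : m = (span gens).2) {v : Verdict}
    (hv : checkVerdict gens (span gens).1 m v = true) : False := by
  haveI : Fact (Nat.Prime 2) := ⟨Nat.prime_two⟩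
  subst hm
  set l := (span gens).1 with hl
  obtain ⟨hmem, hnd, hlt, hiff, hall⟩ := D.span_spec hc
  have hgl := Setup.gens_lt hc
  have hHl : ∀ s, s ∈ H ↔ ∃ x ∈ l, φ x = s := fun s => by
    rw [hH]
    exact ⟨hall s, fun ⟨x, hx, e⟩ => e ▸ (hiff x (hlt x hx)).2 hx⟩
  have hHx : ∀ x < 512, (φ x ∈ H ↔ has (span gens).2 x = true) := fun x hx => by
    rw [hH, hiff x hx, hmem]
  have hnorm : ∀ g, normalises gens (span gens).2 g = true →
      g < 512 ∧ φ g ∉ H ∧ φ g ∈ normalizer (H : Set G) := by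
    intro g h
    simp only [normalises, Bool.and_eq_true, Nat.blt_eq, Bool.not_eq_true', List.all_eq_true] at h
    obtain ⟨⟨hg5, hnot⟩, hall'⟩ := h
    refine ⟨hg5, fun hh => ?_, Coprime.mem_normalizer_of_forall fun s hs => ?_⟩
    · rw [(hHx g hg5).1 hh] at hnot
      exact Bool.noConfusion hnot
    · have : gen φ gens ≤ H.comap (MulAut.conj (φ g)).toMonoidHom := (closure_le _).2 (by
        rintro _ ⟨k, hk, rfl⟩
        show φ g * φ k * (φ g)⁻¹ ∈ H
        rw [← D.conj hg5 (hgl k hk), hHx _ (conjN_lt hg5 k)]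
        exact hall' k hk)
      exact this (hH ▸ hs)
  rcases v with z | g | ⟨g₁, g₂⟩
  · simp only [checkVerdict, Bool.and_eq_true, Nat.blt_eq, Bool.not_eq_true', List.all_eq_true] at hv
    obtain ⟨⟨hz, hnot⟩, hcomm⟩ := hv
    have h1 : φ z ∈ centralizer (H : Set G) := mem_centralizer_iff.2 fun s hs => by
      refine (commute_gen (fun k hk => ((D.commutes_iff (hgl k hk) hz).1 (hcomm k hk)).symm)
        (hH ▸ hs : s ∈ gen φ gens)).symm
    rw [(hHx z hz).1 (hg.2.2.1 ⟨D.phi_mem hz, h1⟩)] at hnot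
    exact Bool.noConfusion hnot
  · simp only [checkVerdict, Bool.and_eq_true] at hv
    obtain ⟨⟨hn, hp⟩, hs⟩ := hv
    obtain ⟨hg5, hgH, hgN⟩ := hnorm g hn
    have hphi := D.squares_spec hlt hHl hp
    simp only [stabOK, Bool.and_eq_true, List.all_eq_true] at hs
    obtain ⟨hs1, hs2⟩ := hs
    set X := Subgroup.closure ((fun h => h * h) '' (H : Set G))
    have hcomm : ∀ s ∈ H, ∀ t ∈ H, (φ g * s * (φ g)⁻¹ * s⁻¹) * t = t * (φ g * s * (φ g)⁻¹ * s⁻¹) := by
      let K : Subgroup G :=
        { carrier := {s | s ∈ H ∧ ∀ t ∈ H, (φ g * s * (φ g)⁻¹ * s⁻¹) * t = t * (φ g * s * (φ g)⁻¹ * s⁻¹)}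
          one_mem' := ⟨one_mem _, fun t _ => by simp⟩
          mul_mem' := fun {a b} ha hb => ⟨mul_mem ha.1 hb.1, fun t ht => by
            have hb' : φ g * b * (φ g)⁻¹ * b⁻¹ ∈ H :=
              mul_mem ((mem_normalizer_iff.1 hgN b).1 hb.1) (inv_mem hb.1)
            have e : φ g * (a * b) * (φ g)⁻¹ * (a * b)⁻¹ =
                φ g * a * (φ g)⁻¹ * a⁻¹ * (a * (φ g * b * (φ g)⁻¹ * b⁻¹) * a⁻¹) := by group
            have e2 : a * (φ g * b * (φ g)⁻¹ * b⁻¹) * a⁻¹ = φ g * b * (φ g)⁻¹ * b⁻¹ := by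
              rw [← hb.2 a ha.1]; group
            rw [e, e2, mul_assoc, hb.2 t ht, ← mul_assoc, ha.2 t ht, mul_assoc]⟩
          inv_mem' := fun {a} ha => ⟨inv_mem ha.1, fun t ht => by
            set δ := φ g * a * (φ g)⁻¹ * a⁻¹
            have hδ : δ * a = a * δ := ha.2 a ha.1
            have e : φ g * a⁻¹ * (φ g)⁻¹ * a⁻¹⁻¹ = a⁻¹ * δ⁻¹ * a := by
              simp only [δ]; group
            have e2 : a⁻¹ * δ⁻¹ * a = δ⁻¹ := by
              have : δ⁻¹ * a = a * δ⁻¹ := (Commute.inv_left (show Commute δ a from hδ)).eq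
              rw [mul_assoc, this, inv_mul_cancel_left]
            rw [e, e2]
            exact (Commute.inv_left (show Commute δ t from ha.2 t ht)).eq⟩ }
      have hle : H ≤ K := by
        conv_lhs => rw [hH]
        refine (closure_le _).2 ?_
        rintro _ ⟨k, hk, rfl⟩
        have hkH : φ k ∈ H := hH ▸ subset_closure ⟨k, hk, rfl⟩
        refine ⟨hkH, fun t ht => ?_⟩
        rw [← D.comm hg5 (hgl k hk)]
        exact commute_gen (fun j hj => ((D.commutes_iff (hgl j hj) (commN_lt hg5 k)).1 (hs1 k hk j hj)).symm)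
          (hH ▸ ht : t ∈ gen φ gens)
      exact fun s hs => (hle hs).2
    have hZ : ∀ s ∈ H, (∀ t ∈ H, s * t = t * s) → φ g * s * (φ g)⁻¹ * s⁻¹ ∈ X ∧
        (s ∈ X → φ g * s * (φ g)⁻¹ * s⁻¹ = 1) := by
      intro s hs hc'
      obtain ⟨x, hx, rfl⟩ := (hHl s).1 hs
      have hxZ : x ∈ centre gens l := by
        refine List.mem_filter.2 ⟨hx, List.all_eq_true.2 fun k hk => ?_⟩
        exact (D.commutes_iff (hgl k hk) (hlt x hx)).2 (hc' _ (hH ▸ subset_closure ⟨k, hk, rfl⟩)).symm
      have h3 := hs2 x hxZ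
      simp only [Bool.or_eq_true, Bool.not_eq_true', Nat.beq_eq] at h3
      rw [← D.comm hg5 (hlt x hx)]
      refine ⟨(hphi _ (commN_lt hg5 x)).2 h3.1, fun hxX => ?_⟩
      rcases h3.2 with h' | h'
      · rw [(hphi x (hlt x hx)).1 hxX] at h'; exact Bool.noConfusion h'
      · rw [h', D.zero]
    let Xc : Subgroup ↥H := X.subgroupOf H
    let U : ℕ → Subgroup ↥H := fun i => if i = 0 then ⊥ else if i = 1 then center ↥H ⊓ Xc
      else if i = 2 then center ↥H else ⊤
    have hXchar : Xc.Characteristic := by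
      refine characteristic_iff_map_le.2 fun e => ?_
      rintro _ ⟨y, hy, rfl⟩
      have hXim : X.subgroupOf H = Subgroup.closure ((fun h : ↥H => h * h) '' Set.univ) := by
        refine map_injective H.subtype_injective ?_
        rw [MonoidHom.map_closure, subgroupOf_map_subtype, inf_eq_left.2 (squares_le H)]
        congr 1
        ext s
        constructor
        · rintro ⟨t, ht, rfl⟩; exact ⟨_, ⟨⟨t, ht⟩, trivial, rfl⟩, rfl⟩
        · rintro ⟨_, ⟨t, -, rfl⟩, rfl⟩; exact ⟨t, t.2, rfl⟩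
      simp only [Xc, SetLike.mem_coe, hXim] at hy ⊢
      induction hy using Subgroup.closure_induction with
      | mem z hz =>
        obtain ⟨t, -, rfl⟩ := hz
        exact subset_closure ⟨e t, trivial, (map_mul e t t).symm⟩
      | one => simp
      | mul a b _ _ ha hb => simp only [map_mul]; exact mul_mem ha hb
      | inv a _ ha => simp only [map_inv]; exact inv_mem ha
    refine hgH (stab_mem P hg (D.phi_mem hg5) hgN 3 U rfl rfl ?_ ?_ ?_)
    · intro i hi
      interval_cases i <;> simp [U]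
    · intro i hi
      interval_cases i <;> simp only [U] <;> norm_num
      · infer_instance
      · haveI := hXchar
        refine characteristic_iff_comap_eq.2 fun e => ?_
        rw [Subgroup.comap_inf, characteristic_iff_comap_eq.1 inferInstance e,
          characteristic_iff_comap_eq.1 inferInstance e]
      · infer_instance
      · infer_instance
    · intro i hi x hx
      set d : ↥H := x⁻¹ * (⟨φ g * (x : G) * (φ g)⁻¹, (mem_normalizer_iff.1 hgN (x : G)).1 x.2⟩ : ↥H)
        with hd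
      have hdc : φ g * (x : G) * (φ g)⁻¹ * (x : G)⁻¹ = (d : G) := by
        have h1 := hcomm _ x.2 _ x.2
        have h3 : (d : G) = (x : G)⁻¹ * (φ g * (x : G) * (φ g)⁻¹) := rfl
        rw [h3]
        have e : φ g * (x : G) * (φ g)⁻¹ = (φ g * (x : G) * (φ g)⁻¹ * (x : G)⁻¹) * x := by group
        rw [eq_inv_mul_iff_mul_eq, ← h1, ← e]
      interval_cases i <;> simp only [U] at hx ⊢ <;> norm_num at hx ⊢
      · obtain ⟨hc1, hc2⟩ := hx
        refine Subtype.ext ?_
        rw [← hdc, (hZ _ x.2 fun t ht => congrArg Subtype.val (mem_center_iff.1 hc1 ⟨t, ht⟩).symm).2 hc2]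
        rfl
      · have hc' := fun t (ht : t ∈ H) => congrArg Subtype.val (mem_center_iff.1 hx ⟨t, ht⟩).symm
        refine ⟨mem_center_iff.2 fun t => Subtype.ext ?_, mem_subgroupOf.2 ?_⟩
        · show (t : G) * d = d * t
          rw [← hdc]
          exact (hcomm _ x.2 _ t.2).symm
        · rw [← hdc]; exact (hZ _ x.2 hc').1
      · refine mem_center_iff.2 fun t => Subtype.ext ?_
        show (t : G) * d = d * t
        rw [← hdc]
        exact (hcomm _ x.2 _ t.2).symm
  · simp only [checkVerdict, Bool.and_eq_true, Bool.not_eq_true'] at hv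
    obtain ⟨⟨⟨⟨⟨hn1, hn2⟩, hq1⟩, hq2⟩, hp⟩, hne⟩ := hv
    obtain ⟨h15, h1H, h1N⟩ := hnorm g₁ hn1
    obtain ⟨h25, h2H, h2N⟩ := hnorm g₂ hn2
    have hphi := D.squares_spec hlt hHl hp
    set X := Subgroup.closure ((fun h => h * h) '' (H : Set G))
    have hcard : ∀ g, g < 512 → Nat.card {x : G // x ∈ H ∧ φ g * x * (φ g)⁻¹ * x⁻¹ ∈ X} =
        fixedCount l g (span (squares l)) := by
      intro g hg5
      have hset : {x : G | x ∈ H ∧ φ g * x * (φ g)⁻¹ * x⁻¹ ∈ X} =
          φ '' {y | y ∈ l.filter fun h => has (span (squares l)).2 (commN g h)} := by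
        ext s
        simp only [Set.mem_image, Set.mem_ofPred_eq, List.mem_filter]
        constructor
        · rintro ⟨hs, hsX⟩
          obtain ⟨x, hx, rfl⟩ := (hHl s).1 hs
          exact ⟨x, ⟨hx, (hphi _ (commN_lt hg5 x)).1 (by rw [D.comm hg5 (hlt x hx)]; exact hsX)⟩, rfl⟩
        · rintro ⟨x, ⟨hx, hxX⟩, rfl⟩
          exact ⟨(hHl _).2 ⟨x, hx, rfl⟩, by
            rw [← D.comm hg5 (hlt x hx)]; exact (hphi _ (commN_lt hg5 x)).2 hxX⟩
      show Nat.card ↥({x : G | x ∈ H ∧ φ g * x * (φ g)⁻¹ * x⁻¹ ∈ X}) = _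
      have hinj : Set.InjOn φ {y | y ∈ l.filter fun h => has (span (squares l)).2 (commN g h)} :=
        fun a ha b hb e => D.inj a (hlt a (List.mem_filter.1 ha).1) b (hlt b (List.mem_filter.1 hb).1) e
      rw [hset, Nat.card_image_of_injOn hinj]
      rw [fixedCount, List.countP_eq_length_filter,
        ← List.toFinset_card_of_nodup (hnd.filter _), ← Nat.card_eq_finsetCard]
      exact Nat.card_congr (Equiv.subtypeEquivRight fun y => by simp [hl])
    have h := card_fixed_eq hg X (squares_inv H) (fun x hx y hy => comm_mem_squares H hx hy) h1N h2N h1H h2H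
      (by rw [← D.mul g₁ h15 g₁ h15, hHx _ (mulN_lt h15 g₁)]; exact hq1)
      (by rw [← D.mul g₂ h25 g₂ h25, hHx _ (mulN_lt h25 g₂)]; exact hq2)
    rw [hcard g₁ h15, hcard g₂ h25] at h
    rw [h] at hne
    simp at hne

end Cfsg.Agent.M24SylowType
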