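import Cfsg.Agent.Lib.M24Sylow.Quotient

/-!
The central quotient of a Sylow 2-subgroup of the Mathieu group of degree 24 as a semidirect product
of the numbers below 64 (the abelian subgroup of order 64) by the dihedral group of order eight.

* `mulN`, `invN` : product and inverse of codes below 512
* `Coord.code` : the numbering by codes
-/

set_option autoImplicit false

namespace Cfsg.Agent.M24SylowType

open Cfsg.Agent.M24Sylow

/-- Conjugation action of a class on the abelian subgroup. -/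
def actTbl : ℕ := 0x8e624cdf27582ce8647dad70cf665c9e23486dec743ca9600c6a6c5d2f78aee044ffa5504d6e7c1c2b68efe454bea1405c6f6c0d2a787ced642da8701d6b7c4c2e683de9746cac60de674c8f2258fee544afa0509f635cce2648bfe154eea440afe25cbfa3580d68741d2970eee64cfea7484c6c645c2d602dea7c3dab788f60549f21506cee6c7caf68ce6444de25403deb7c2daa781d69740d28707cef6c6cae685c6d644c2c60bfe35cafa2589f61548f2050fee74ceea648de6544ce24404c664c1d2358eeec64bfa9700d625c5c2748afe874fead60ce6e6c9f2b786ce4443da1508f6a7cde2f682de0547ca5409e6b6ccf2e78bee964efac70df6f7c8e2a68ffed74aea8601c634c4d26583ce1446da4505d675c0c22487de5542ca0406de65c7da758cf6c74df2d702ce24c3ca3488e68649e2960efee7cffaf784d64545d2550aeea6cbeab680c60441c2140ffef7cefae78df6d74cf2c70beeb6caeaa689e69648e28607de75c6da6585d65544d24503ce34c2ca2481c61440c2040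

def mul8Tbl : ℕ := 3658111428439949625274344718457969415921198461868490540680

def inv8Tbl : ℕ := 8048264

def act (m v : ℕ) : ℕ := Nat.land (Nat.shiftRight actTbl (Nat.mul 6 (Nat.add (Nat.mul 64 m) v))) 63

def mul8 (m n : ℕ) : ℕ := Nat.land (Nat.shiftRight mul8Tbl (Nat.mul 3 (Nat.add (Nat.mul 8 m) n))) 7

def inv8 (m : ℕ) : ℕ := Nat.land (Nat.shiftRight inv8Tbl (Nat.mul 3 m)) 7

/-- The code of an element from its two parts. -/
def mk (v m : ℕ) : ℕ := Nat.add (Nat.mul 8 v) m

/-- The product of codes. -/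
def mulN (x y : ℕ) : ℕ :=
  mk (Nat.xor (Nat.div x 8) (act (Nat.mod x 8) (Nat.div y 8))) (mul8 (Nat.mod x 8) (Nat.mod y 8))

/-- The inverse of a code. -/
def invN (x : ℕ) : ℕ :=
  mk (act (inv8 (Nat.mod x 8)) (Nat.div x 8)) (inv8 (Nat.mod x 8))

/-- The number of the element of the abelian subgroup with coordinates `v`. -/
def sp (v : ℕ) : ℕ :=
  (v &&& 1) ||| (((v >>> 1) &&& 1) <<< 3) ||| (((v >>> 2) &&& 1) <<< 4) |||
    (((v >>> 3) &&& 1) <<< 6) ||| (((v >>> 4) &&& 1) <<< 7) ||| (((v >>> 5) &&& 1) <<< 8)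

/-- The coordinates of an element of the abelian subgroup. -/
def pk (a : ℕ) : ℕ :=
  (a &&& 1) ||| (((a >>> 3) &&& 1) <<< 1) ||| (((a >>> 4) &&& 1) <<< 2) |||
    (((a >>> 6) &&& 1) <<< 3) ||| (((a >>> 7) &&& 1) <<< 4) ||| (((a >>> 8) &&& 1) <<< 5)

/-- The number of the element with a given code. -/
def back (x : ℕ) : ℕ := mulS (sp (x / 8)) (rep (x % 8))

theorem parts_lt {x : ℕ} (hx : x < 512) : x / 8 < 64 ∧ x % 8 < 8 := by omega

theorem mk_lt {v m : ℕ} (hv : v < 64) (hm : m < 8) : mk v m < 512 := by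
  show 8 * v + m < 512
  omega

theorem act_lt (m v : ℕ) : act m v < 64 :=
  Nat.lt_succ_of_le Nat.and_le_right

theorem mul8_lt (m n : ℕ) : mul8 m n < 8 :=
  Nat.lt_succ_of_le Nat.and_le_right

theorem inv8_lt (m : ℕ) : inv8 m < 8 :=
  Nat.lt_succ_of_le Nat.and_le_right

theorem mulN_lt {x : ℕ} (hx : x < 512) (y : ℕ) : mulN x y < 512 :=
  mk_lt (Nat.xor_lt_two_pow (n := 6) (parts_lt hx).1 (act_lt _ _)) (mul8_lt _ _)

theorem invN_lt (x : ℕ) : invN x < 512 := mk_lt (act_lt _ _) (inv8_lt _)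

theorem all_two {p q : ℕ} {f : ℕ → ℕ → Bool}
    (h : (List.range p).all (fun i => (List.range q).all fun j => f i j) = true)
    {i : ℕ} (hi : i < p) {j : ℕ} (hj : j < q) : f i j = true :=
  of_all_range (f := fun j => f i j) (of_all_range h hi) hj

theorem sp_lt {v : ℕ} (hv : v < 64) : sp v < 512 ∧ mid (sp v) = 0 ∧ pk (sp v) = v := by
  have h : ((List.range 64).all fun v => Nat.ble (sp v + 1) 512 && (mid (sp v) == 0 && pk (sp v) == v)) = true := by
    decide +kernel
  have := of_all_range h hv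
  simp only [Bool.and_eq_true, Nat.ble_eq, beq_iff_eq] at this
  omega

theorem rep_lt {m : ℕ} (hm : m < 8) : rep m < 512 := by
  have h : ((List.range 8).all fun m => Nat.ble (rep m + 1) 512) = true := by decide +kernel
  have := of_all_range h hm
  simp only [Nat.ble_eq] at this
  omega

theorem sp_xor {v w : ℕ} (hv : v < 64) (hw : w < 64) : mulS (sp v) (sp w) = sp (Nat.xor v w) := by
  have h : ((List.range 64).all fun v => (List.range 64).all fun w =>
      mulS (sp v) (sp w) == sp (Nat.xor v w)) = true := by decide +kernel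
  exact beq_iff_eq.1 (all_two h hv hw)

theorem rep_sp {m v : ℕ} (hm : m < 8) (hv : v < 64) :
    mulS (rep m) (sp v) = mulS (sp (act m v)) (rep m) := by
  have h : ((List.range 8).all fun m => (List.range 64).all fun v =>
      mulS (rep m) (sp v) == mulS (sp (act m v)) (rep m)) = true := by decide +kernel
  exact beq_iff_eq.1 (all_two h hm hv)

theorem rep_rep {m n : ℕ} (hm : m < 8) (hn : n < 8) : mulS (rep m) (rep n) = rep (mul8 m n) := by
  have h : ((List.range 8).all fun m => (List.range 8).all fun n =>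
      mulS (rep m) (rep n) == rep (mul8 m n)) = true := by decide +kernel
  exact beq_iff_eq.1 (all_two h hm hn)

theorem back_code {x : ℕ} (hx : x < 512) :
    back x < 512 ∧ mk (pk (M24Sylow.ap (back x))) (mid (back x)) = x ∧
      (mid (back x) = 0 ↔ x % 8 = 0) := by
  have h : (all512 fun x => Nat.ble (back x + 1) 512 &&
      (mk (pk (M24Sylow.ap (back x))) (mid (back x)) == x && mid (back x) == x % 8)) = true := by
    decide +kernel
  have := of_all512 h hx
  simp only [Bool.and_eq_true, Nat.ble_eq, beq_iff_eq] at this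
  exact ⟨by omega, this.2.1, by rw [this.2.2]⟩

theorem code_back {b : ℕ} (hb : b < 512) :
    mk (pk (M24Sylow.ap b)) (mid b) < 512 ∧ back (mk (pk (M24Sylow.ap b)) (mid b)) = b := by
  have h : (all512 fun b => Nat.ble (mk (pk (M24Sylow.ap b)) (mid b) + 1) 512 &&
      back (mk (pk (M24Sylow.ap b)) (mid b)) == b) = true := by decide +kernel
  have := of_all512 h hb
  simp only [Bool.and_eq_true, Nat.ble_eq, beq_iff_eq] at this
  exact ⟨by omega, this.2⟩

/-- A numbering of a group by codes. -/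
structure Num {S : Type*} [Group S] (φ : ℕ → S) : Prop where
  zero : φ 0 = 1
  mul : ∀ x < 512, ∀ y < 512, φ (mulN x y) = φ x * φ y
  inj : ∀ x < 512, ∀ y < 512, φ x = φ y → x = y
  surj : ∀ s, ∃ x < 512, φ x = s

variable {S : Type*} [Group S] {ψ : ℕ → S}

theorem num_of_coord (h : Coord ψ) : Num fun x => ψ (back x) where
  zero := by
    have : back 0 = 0 := by decide +kernel
    rw [this]
    exact h.map_zero
  mul x hx y hy := by
    obtain ⟨hxv, hxm⟩ := parts_lt hx
    obtain ⟨hyv, hym⟩ := parts_lt hy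
    have ha := act_lt (x % 8) (y / 8)
    have hxa : Nat.xor (x / 8) (act (x % 8) (y / 8)) < 64 :=
      Nat.xor_lt_two_pow (n := 6) hxv ha
    have hd : mulN x y / 8 = Nat.xor (x / 8) (act (x % 8) (y / 8)) ∧ mulN x y % 8 = mul8 (x % 8) (y % 8) := by
      have := mul8_lt (x % 8) (y % 8)
      show (8 * _ + _) / 8 = _ ∧ (8 * _ + _) % 8 = _
      simp only [show Nat.div x 8 = x / 8 from rfl, show Nat.mod x 8 = x % 8 from rfl,
        show Nat.div y 8 = y / 8 from rfl, show Nat.mod y 8 = y % 8 from rfl]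
      omega
    obtain ⟨hd1, hd2⟩ := hd
    simp only [back, hd1, hd2]
    rw [← sp_xor hxv ha, ← rep_rep hxm hym]
    have e1 := sp_lt hxv
    have e2 := sp_lt hyv
    have e3 := sp_lt ha
    have l1 := rep_lt hxm
    have l2 := rep_lt hym
    have lm : ∀ a b, mulS a b < 512 := fun a b => Nat.mod_lt _ (by norm_num)
    rw [h.mul _ (lm _ _) _ (lm _ _), h.mul _ e1.1 _ e3.1,
      h.mul _ l1 _ l2, h.mul _ e1.1 _ l1, h.mul _ e2.1 _ l2]
    have e4 : ψ (sp (act (x % 8) (y / 8))) * ψ (rep (x % 8)) = ψ (rep (x % 8)) * ψ (sp (y / 8)) := by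
      rw [← h.mul _ e3.1 _ l1, ← rep_sp hxm hyv, h.mul _ l1 _ e2.1]
    simp only [mul_assoc]
    rw [← mul_assoc (ψ (sp (act (x % 8) (y / 8)))), e4, mul_assoc]
  inj x hx y hy e := by
    have := h.inj _ (back_code hx).1 _ (back_code hy).1 e
    rw [← (back_code hx).2.1, this, (back_code hy).2.1]
  surj s := by
    obtain ⟨b, hb, rfl⟩ := h.surj s
    exact ⟨_, (code_back hb).1, congrArg ψ (code_back hb).2⟩

/-- Codes of the abelian subgroup of order 64 are the multiples of eight. -/
theorem exists_num (h : Coord ψ) : ∃ (φ : ℕ → S) (A : Subgroup S), Num φ ∧ Nat.card ↥A = 64 ∧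
    IsMulCommutative ↥A ∧ (∀ a ∈ A, a * a = 1) ∧ ∀ x < 512, φ x ∈ A ↔ x % 8 = 0 := by
  obtain ⟨A, hA, hc, hm⟩ := h.exists_abelian64
  exact ⟨_, A, num_of_coord h, hc, hA.1, fun a ha => by rw [← pow_two]; exact hA.2 a ha,
    fun x hx => (hm _ (back_code hx).1).trans (back_code hx).2.2⟩

end Cfsg.Agent.M24SylowType
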