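import Cfsg.Agent.Lib.M24SylowType.Action
import Cfsg.Agent.Lib.Goldschmidt.General.Final

/-!
The abelian subgroup of order 64 is normal in a core-free group.

* `no_moved` : no component is moved
* `normal_of_threeInv` : normality, given the theorem on three classes of involutions
-/

set_option autoImplicit false
set_option linter.unusedSectionVars false
set_option linter.style.haveILetI false

namespace Cfsg.Agent.M24SylowType

open Cfsg Subgroup Cfsg.Agent.StrongAlperin Cfsg.Agent.Components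
open scoped commutatorElement

universe u

variable {G : Type u} [Group G] [Finite G] {A : Subgroup G} {φ : ℕ → G} {S : Sylow 2 G}

open Goldschmidt in
theorem local_of_closed (hTI : Goldschmidt.ThreeInv.ThreeInvTarget.{u}) (hO : Cfsg.oddCore G = ⊥)
    (h : Only64 (S : Subgroup G) A) (hsq : ∀ a ∈ A, a * a = 1)
    (hsc : Cfsg.IsStronglyClosed A (S : Subgroup G)) :
    General.Local G (Goldschmidt.classSet A) A := by
  haveI : Fact (Nat.Prime 2) := ⟨Nat.prime_two⟩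
  have hT := Goldschmidt.elem_classSet S hsc hsq
  refine ⟨hO, ?_, hT, fun a ha => Goldschmidt.mem_classSet_of_mem ha, S.isPGroup'.to_le hsc.1, ?_⟩
  · intro L _ _ H f _ hs hna hLT
    obtain ⟨T, hT', x, hx, hx1⟩ := hLT
    exact General.sectionShape (General.remaining hTI) L (General.mainAt (General.remaining hTI) L)
      hs hna T hT' hx hx1
  · intro P hP hAP x hx hxT
    obtain ⟨Q, hQ⟩ := hP.exists_le_sylow
    obtain ⟨g, hg⟩ := MulAction.exists_smul_eq G Q S
    have hm : ∀ z ∈ P, g * z * g⁻¹ ∈ (S : Subgroup G) := fun z hz => by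
      rw [← hg, Sylow.coe_subgroup_smul, Coprime.mem_conj]
      simpa [mul_assoc] using hQ hz
    have hgA : A.map (MulAut.conj g).toMonoidHom = A := h.conj (by
      rintro _ ⟨a, ha, rfl⟩
      exact hm a (hAP ha))
    have hxA := (Goldschmidt.mem_classSet_iff hsc (hm x hx)).1 (hT.closed.conj g x hxT)
    rw [← hgA] at hxA
    obtain ⟨a, ha, e⟩ := hxA
    exact (MulAut.conj g).injective e ▸ ha

section Moved

open Cfsg.Agent.Goldschmidt.General (Local Moved CompData fixer)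

variable {T : Set G}

theorem center_eq_bot (D : Setup (S : Subgroup G) A φ) (h : Only64 (S : Subgroup G) A)
    (hsq : ∀ a ∈ A, a * a = 1) {K : Subgroup G} {q : ℕ} (hC : CompData A K q) :
    center ↥K = ⊥ := by
  by_contra hne
  obtain ⟨-, Q, t, hQ⟩ := hC.cover hne
  exact no_eight D h hsq hQ.norm hQ.cent (hQ.comm.trans inf_le_left) hQ.index

theorem eq_one_of_mem {K : Subgroup G} (hc : center ↥K = ⊥) {x : G} (hx : x ∈ K)
    (hxc : x ∈ centralizer (K : Set G)) : x = 1 := by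
  have : (⟨x, hx⟩ : ↥K) ∈ center ↥K :=
    mem_center_iff.2 fun k => Subtype.ext (mem_centralizer_iff.1 hxc k k.2)
  rw [hc] at this
  exact congrArg Subtype.val (mem_bot.1 this)

theorem mem_centralizer_of_ne {K J : Subgroup G} (hK : Cfsg.IsComponent K) (hJ : Cfsg.IsComponent J)
    (hne : K ≠ J) {b : G} (hb : b ∈ K) : b ∈ centralizer (J : Set G) := by
  refine mem_centralizer_iff.2 fun j hj => ?_
  exact (commutatorElement_eq_one_iff_commute.1 (mem_bot.1
    (IsComponent.commutator_eq_bot hK hJ hne ▸ commutator_mem_commutator hb hj))).eq.symm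

theorem conj_fix {K : Subgroup G} {g : G} (hg : g ∈ normalizer (K : Set G)) :
    K.map (MulAut.conj g).toMonoidHom = K := by
  refine le_antisymm ?_ fun k hk => ?_
  · rintro _ ⟨k, hk, rfl⟩
    exact (mem_normalizer_iff.1 hg k).1 hk
  · exact ⟨g⁻¹ * k * g, (mem_normalizer_iff''.1 hg k).1 hk, by simp [mul_assoc]⟩

theorem mem_normalizer_of_fix {K : Subgroup G} {g : G} (h : K.map (MulAut.conj g).toMonoidHom = K) :
    g ∈ normalizer (K : Set G) := Coprime.mem_normalizer_of_forall fun k hk => by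
  have : g * k * g⁻¹ ∈ K.map (MulAut.conj g).toMonoidHom := ⟨k, hk, rfl⟩
  rwa [h] at this

/-- The square of a middle element centralises the part of a moved component. -/
theorem part_fixed (D : Setup (S : Subgroup G) A φ) (h : Only64 (S : Subgroup G) A)
    (hsq : ∀ a ∈ A, a * a = 1) (L : Local G T A) {w : G} (hw : Mid A w) {K : Subgroup G}
    (hK : Moved A K) {x : G} (hxA : x ∈ A) (hxK : x ∈ K) :
    w * w * x * (w * w)⁻¹ * x⁻¹ = 1 := by
  haveI := h.1
  have hc : ∀ a ∈ A, ∀ b ∈ A, a * b = b * a := fun a ha b hb => setLike_mul_comm ha hb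
  obtain ⟨q, hC⟩ := Goldschmidt.General.compData L hK
  have hcen := center_eq_bot D h hsq hC
  set s := w * w with hs
  have hwn := hw.norm
  have hsn : s ∈ normalizer (A : Set G) := mul_mem hwn hwn
  have hcomp : ∀ g : G, Cfsg.IsComponent (K.map (MulAut.conj g).toMonoidHom) :=
    fun g => IsComponent.conj hK.1 g
  have hcA : ∀ {g : G}, g ∈ normalizer (A : Set G) → ∀ {a : G}, a ∈ A → g * a * g⁻¹ ∈ A :=
    fun hg _ ha => (mem_normalizer_iff.1 hg _).1 ha
  have hfix := hw.fix x hxA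
  rw [← hs] at hfix
  by_cases hsK : s ∈ normalizer (K : Set G)
  swap
  · -- the four conjugates
    have h4 : w * w * (w * w) ∈ normalizer (K : Set G) := hC.norm hw.four
    have hne : ∀ g : G, g ∉ normalizer (K : Set G) → ∀ k ∈ K, g * k * g⁻¹ ∈ centralizer (K : Set G) :=
      fun g hg k hk => mem_centralizer_of_ne (hcomp g) hK.1
        (fun e => hg (mem_normalizer_of_fix e)) ⟨k, hk, rfl⟩
    have hw1 : w ∉ normalizer (K : Set G) := fun hh => hsK (mul_mem hh hh)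
    have hw3 : w * s ∉ normalizer (K : Set G) := fun hh => hw1 (by
      have := mul_mem h4 (inv_mem hh)
      rwa [show w * w * (w * w) * (w * s)⁻¹ = w by rw [hs]; group] at this)
    have hx : x = (w * (s * x * s⁻¹) * w⁻¹)⁻¹ * (w * x * w⁻¹) * (s * x * s⁻¹) := by
      calc x = (s * x * s⁻¹ * x⁻¹)⁻¹ * (s * x * s⁻¹) := by group
        _ = (w * (s * x * s⁻¹ * x⁻¹) * w⁻¹)⁻¹ * (s * x * s⁻¹) := by rw [hfix]
        _ = w * x * w⁻¹ * (w * (s * x * s⁻¹) * w⁻¹)⁻¹ * (s * x * s⁻¹) := by group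
        _ = _ := by rw [hc _ (hcA hwn hxA) _ (inv_mem (hcA hwn (hcA hsn hxA)))]
    have hx1 : x = 1 := eq_one_of_mem hcen hxK (by
      rw [hx]
      refine mul_mem (mul_mem (inv_mem ?_) (hne w hw1 x hxK)) (hne s hsK x hxK)
      rw [show w * (s * x * s⁻¹) * w⁻¹ = w * s * x * (w * s)⁻¹ by group]
      exact hne (w * s) hw3 x hxK)
    rw [hx1]; group
  have hyK : s * x * s⁻¹ * x⁻¹ ∈ K := mul_mem ((mem_normalizer_iff.1 hsK x).1 hxK) (inv_mem hxK)
  by_cases hwK : w ∈ normalizer (K : Set G)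
  swap
  · refine eq_one_of_mem hcen hyK ?_
    rw [← hfix]
    exact mem_centralizer_of_ne (hcomp w) hK.1 (fun e => hwK (mem_normalizer_of_fix e)) ⟨_, hyK, rfl⟩
  -- the component is normalised
  obtain ⟨t, htK, htA, -, ⟨P, hP, hPf, hPs, htP, htr⟩, huni⟩ := hC.torus
  have hFK : ∀ z ∈ K, z ∈ fixer A K → z = 1 := fun z hz hf => eq_one_of_mem hcen hz hf.2
  have hFn : fixer A K ≤ normalizer (P : Set G) := fun f hf =>
    centralizer_le_normalizer _ (mem_centralizer_iff.2 fun y hy => hc y (hP hy).1 f hf.1)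
  have hsplit : ∀ a ∈ A, ∃ p ∈ P, ∃ f ∈ fixer A K, p * f = a :=
    fun a ha => (Coprime.mem_sup_iff hFn).1 (hPs.ge ha)
  have hPeq : ∀ z, z ∈ A → z ∈ K → z ∈ P := by
    intro z hzA hzK
    obtain ⟨p, hp, f, hf, e⟩ := hsplit z hzA
    have : f = p⁻¹ * z := by rw [← e, inv_mul_cancel_left]
    have h1 := hFK f (this ▸ mul_mem (inv_mem (hP hp).2) hzK) hf
    rw [← e, h1, mul_one]
    exact hp
  have hsF : ∀ f ∈ fixer A K, s⁻¹ * f * s ∈ fixer A K ∧ s * f * s⁻¹ ∈ fixer A K := by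
    intro f hf
    refine ⟨⟨(mem_normalizer_iff''.1 hsn f).1 hf.1, mem_centralizer_iff.2 fun k hk => ?_⟩,
      ⟨hcA hsn hf.1, mem_centralizer_iff.2 fun k hk => ?_⟩⟩
    · have h1 := mem_centralizer_iff.1 hf.2 _ ((mem_normalizer_iff.1 hsK k).1 hk)
      calc k * (s⁻¹ * f * s) = s⁻¹ * (s * k * s⁻¹ * f) * s := by group
        _ = s⁻¹ * (f * (s * k * s⁻¹)) * s := by rw [h1]
        _ = _ := by group
    · have h1 := mem_centralizer_iff.1 hf.2 _ ((mem_normalizer_iff''.1 hsK k).1 hk)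
      calc k * (s * f * s⁻¹) = s * (s⁻¹ * k * s * f) * s⁻¹ := by group
        _ = s * (f * (s⁻¹ * k * s)) * s⁻¹ := by rw [h1]
        _ = _ := by group
  have htF : ∀ (k : ℕ), ∀ f ∈ fixer A K, t ^ k * f * (t ^ k)⁻¹ = f := fun k f hf => by
    rw [mem_centralizer_iff.1 hf.2 _ (pow_mem htK k), mul_inv_cancel_right]
  have htrans : ∀ a ∈ A, ∀ b ∈ A, a ∉ fixer A K → b ∉ fixer A K →
      ∃ k : ℕ, (t ^ k * a * (t ^ k)⁻¹)⁻¹ * b ∈ fixer A K := by
    intro a ha b hb haF hbF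
    obtain ⟨p, hp, f, hf, rfl⟩ := hsplit a ha
    obtain ⟨p', hp', f', hf', rfl⟩ := hsplit b hb
    obtain ⟨k, hk⟩ := htr p hp p' hp' (fun e => haF (by rw [e, one_mul]; exact hf))
      (fun e => hbF (by rw [e, one_mul]; exact hf'))
    refine ⟨k, ?_⟩
    rw [show t ^ k * (p * f) * (t ^ k)⁻¹ = t ^ k * p * (t ^ k)⁻¹ * (t ^ k * f * (t ^ k)⁻¹) by group,
      hk, htF k f hf, show (p' * f)⁻¹ * (p' * f') = f⁻¹ * f' by group]
    exact mul_mem (inv_mem hf) hf'
  set t' := s * t * s⁻¹ with ht'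
  have ht'pow : ∀ k : ℕ, t' ^ k = s * t ^ k * s⁻¹ := fun k => conj_pow
  have htm : Goldschmidt.General.TransMod A (fixer A K) t' := by
    intro a ha b hb haF hbF
    have hb' : ∀ z, z ∈ A → z ∉ fixer A K → s⁻¹ * z * s ∈ A ∧ s⁻¹ * z * s ∉ fixer A K := by
      refine fun z hz hzF => ⟨(mem_normalizer_iff''.1 hsn z).1 hz, fun hh => hzF ?_⟩
      simpa [mul_assoc] using (hsF _ hh).2
    obtain ⟨h1, h2⟩ := hb' a ha haF
    obtain ⟨h3, h4⟩ := hb' b hb hbF
    obtain ⟨k, hk⟩ := htrans _ h1 _ h3 h2 h4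
    refine ⟨k, ?_⟩
    rw [ht'pow]
    have := (hsF _ hk).2
    rwa [show s * ((t ^ k * (s⁻¹ * a * s) * (t ^ k)⁻¹)⁻¹ * (s⁻¹ * b * s)) * s⁻¹ =
      (s * t ^ k * s⁻¹ * a * (s * t ^ k * s⁻¹)⁻¹)⁻¹ * b by group] at this
  obtain ⟨k, hk⟩ := huni t' ((mem_normalizer_iff.1 hsK t).1 htK) (mul_mem (mul_mem hsn htA) (inv_mem hsn)) htm
  have hst : ∀ a ∈ A, t' * a * t'⁻¹ = t ^ k * a * (t ^ k)⁻¹ := fun a ha => by
    have h1 := hk a ha
    exact mul_inv_eq_one.1 (eq_one_of_mem hcen h1.1 h1.2)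
  -- the images of powers
  have htj : ∀ (j : ℕ), ∀ a ∈ A, s * (t ^ j * a * (t ^ j)⁻¹) * s⁻¹ =
      t ^ (k * j) * (s * a * s⁻¹) * (t ^ (k * j))⁻¹ := by
    intro j
    induction j with
    | zero => intro a _; simp
    | succ j ih =>
      intro a ha
      have h1 : s * (t * a * t⁻¹) * s⁻¹ = t ^ k * (s * a * s⁻¹) * (t ^ k)⁻¹ := by
        rw [← hst _ (hcA hsn ha), ht']; group
      rw [show t ^ (j + 1) * a * (t ^ (j + 1))⁻¹ = t ^ j * (t * a * t⁻¹) * (t ^ j)⁻¹ by
        rw [pow_succ]; group, ih _ (hcA htA ha), h1, Nat.mul_succ, pow_add]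
      group
  by_contra hne
  set z₀ := s * x * s⁻¹ * x⁻¹ with hz₀
  have hz₀A : z₀ ∈ A := mul_mem (hcA hsn hxA) (inv_mem hxA)
  have hz₀P : z₀ ∈ P := hPeq _ hz₀A hyK
  -- elements fixed by the square are fixed
  have hZ : ∀ z ∈ P, s * z * s⁻¹ = z → w * z * w⁻¹ = z := by
    intro z hz hsz
    rcases eq_or_ne z 1 with rfl | hz1
    · group
    obtain ⟨j, hj⟩ := htr z₀ hz₀P z hz hne hz1
    have hs0 : s * z₀ * s⁻¹ = z₀ := by
      have h1 : w * z₀ * w⁻¹ = z₀ := hfix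
      rw [hs, show w * w * z₀ * (w * w)⁻¹ = w * (w * z₀ * w⁻¹) * w⁻¹ by group, h1, h1]
    have h1 : t ^ (k * j) * z₀ * (t ^ (k * j))⁻¹ = t ^ j * z₀ * (t ^ j)⁻¹ := by
      have := htj j z₀ hz₀A
      rwa [hj, hsz, hs0, ← hj, eq_comm] at this
    have h2 : ∀ u ∈ P, t ^ (k * j) * u * (t ^ (k * j))⁻¹ = t ^ j * u * (t ^ j)⁻¹ := by
      intro u hu
      rcases eq_or_ne u 1 with rfl | hu1
      · group
      obtain ⟨l, rfl⟩ := htr z₀ hz₀P u hu hne hu1
      calc t ^ (k * j) * (t ^ l * z₀ * (t ^ l)⁻¹) * (t ^ (k * j))⁻¹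
          = (t ^ (k * j) * t ^ l) * z₀ * (t ^ (k * j) * t ^ l)⁻¹ := by group
        _ = (t ^ l * t ^ (k * j)) * z₀ * (t ^ l * t ^ (k * j))⁻¹ := by rw [← pow_add, ← pow_add, add_comm]
        _ = t ^ l * (t ^ (k * j) * z₀ * (t ^ (k * j))⁻¹) * (t ^ l)⁻¹ := by group
        _ = t ^ l * (t ^ j * z₀ * (t ^ j)⁻¹) * (t ^ l)⁻¹ := by rw [h1]
        _ = (t ^ l * t ^ j) * z₀ * (t ^ l * t ^ j)⁻¹ := by group
        _ = (t ^ j * t ^ l) * z₀ * (t ^ j * t ^ l)⁻¹ := by rw [← pow_add, ← pow_add, add_comm]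
        _ = _ := by group
    have hzj : z = s * (t ^ j * x * (t ^ j)⁻¹) * s⁻¹ * (t ^ j * x * (t ^ j)⁻¹)⁻¹ := by
      rw [htj j x hxA, h2 _ (hPeq _ (hcA hsn hxA) ((mem_normalizer_iff.1 hsK x).1 hxK)), ← hj, hz₀]
      group
    rw [hzj]
    exact hw.fix _ (hcA (pow_mem htA j) hxA)
  set y := w * x * w⁻¹ * x⁻¹ with hy
  have hyA : y ∈ A := mul_mem (hcA hwn hxA) (inv_mem hxA)
  have hyP : y ∈ P := hPeq _ hyA (mul_mem ((mem_normalizer_iff.1 hwK x).1 hxK) (inv_mem hxK))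
  have h2 : w * y * w⁻¹ * y⁻¹ = z₀ := hw.twice x hxA
  have hsy : s * y * s⁻¹ = y := by
    have h3 : w * y * w⁻¹ = z₀ * y := by rw [← h2]; group
    calc s * y * s⁻¹ = w * (w * y * w⁻¹) * w⁻¹ := by rw [hs]; group
      _ = w * (z₀ * y) * w⁻¹ := by rw [h3]
      _ = (w * z₀ * w⁻¹) * (w * y * w⁻¹) := by group
      _ = z₀ * (z₀ * y) := by rw [h3, show w * z₀ * w⁻¹ = z₀ from hfix]
      _ = y := by rw [← mul_assoc, hsq _ hz₀A, one_mul]
  exact hne (by rw [← h2, hZ y hyP hsy, mul_inv_cancel])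

/-- No component is moved. -/
theorem no_moved (D : Setup (S : Subgroup G) A φ) (h : Only64 (S : Subgroup G) A)
    (hsq : ∀ a ∈ A, a * a = 1) (L : Local G T A) {K : Subgroup G} (hK : Moved A K) : False := by
  classical
  haveI := h.1
  have hc : ∀ a ∈ A, ∀ b ∈ A, a * b = b * a := fun a ha b hb => setLike_mul_comm ha hb
  obtain ⟨w, hw⟩ := exists_mid D h
  set s := w * w with hs
  have hsn : s ∈ normalizer (A : Set G) := mul_mem hw.norm hw.norm
  have key : ∀ (F : Finset (Subgroup G)), (∀ J ∈ F, Moved A J) → ∀ a ∈ A,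
      ∃ f ∈ A, (∀ J ∈ F, f ∈ centralizer (J : Set G)) ∧
        s * a * s⁻¹ * a⁻¹ = s * f * s⁻¹ * f⁻¹ := by
    intro F
    induction F using Finset.induction_on with
    | empty => exact fun _ a ha => ⟨a, ha, fun J hJ => absurd hJ (Finset.notMem_empty J), rfl⟩
    | insert J F hJF ih =>
      intro hF a ha
      obtain ⟨f, hf, hfc, e⟩ := ih (fun J' hJ' => hF J' (Finset.mem_insert_of_mem hJ')) a ha
      have hJ := hF J (Finset.mem_insert_self J F)
      obtain ⟨q, hC⟩ := Goldschmidt.General.compData L hJ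
      have hnorm : fixer A J ≤ normalizer ((A ⊓ J : Subgroup G) : Set G) := fun g hg =>
        centralizer_le_normalizer _ (mem_centralizer_iff.2 fun y hy => hc y hy.1 g hg.1)
      obtain ⟨b, hb, f', hf', hbf⟩ := (Coprime.mem_sup_iff hnorm).1 (hC.sup.ge hf)
      refine ⟨f', hf'.1, fun J' hJ' => ?_, ?_⟩
      · rcases Finset.mem_insert.1 hJ' with rfl | hJ''
        · exact hf'.2
        · have hne : J ≠ J' := fun hh => hJF (hh ▸ hJ'')
          rw [show f' = b⁻¹ * f by rw [← hbf, inv_mul_cancel_left]]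
          exact mul_mem (inv_mem (mem_centralizer_of_ne hJ.1
            (hF J' hJ').1 hne hb.2)) (hfc J' hJ'')
      · rw [e, ← hbf]
        have h1 := part_fixed D h hsq L hw hJ hb.1 hb.2
        rw [← hs] at h1
        calc s * (b * f') * s⁻¹ * (b * f')⁻¹ = s * b * s⁻¹ * (s * f' * s⁻¹ * f'⁻¹) * b⁻¹ := by group
          _ = b * (s * f' * s⁻¹ * f'⁻¹) * b⁻¹ := by rw [mul_inv_eq_one.1 h1]
          _ = _ := by
            rw [hc b hb.1 _ (mul_mem ((mem_normalizer_iff.1 hsn _).1 hf'.1) (inv_mem hf'.1)),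
              mul_inv_cancel_right]
  have himg : ∀ b ∈ A, ∀ J, Moved A J → s * b * s⁻¹ * b⁻¹ ∈ centralizer (J : Set G) := by
    intro b hb J hJ
    obtain ⟨f, hf, hfc, e⟩ := key (Set.toFinite {J : Subgroup G | Moved A J}).toFinset
      (fun J hJ => by simpa using hJ) b hb
    rw [e]
    have hJ' := Goldschmidt.General.moved_conj L hJ s⁻¹
    have h1 : f ∈ centralizer ((J.map (MulAut.conj s⁻¹).toMonoidHom : Subgroup G) : Set G) :=
      hfc _ (by simpa using hJ')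
    refine mul_mem (mem_centralizer_iff.2 fun j hj => ?_) (inv_mem (hfc J (by simpa using hJ)))
    have h2 := mem_centralizer_iff.1 h1 (s⁻¹ * j * s) ⟨j, hj, by simp⟩
    calc j * (s * f * s⁻¹) = s * (s⁻¹ * j * s * f) * s⁻¹ := by group
      _ = s * (f * (s⁻¹ * j * s)) * s⁻¹ := by rw [h2]
      _ = _ := by group
  obtain ⟨q, hC⟩ := Goldschmidt.General.compData L hK
  have hcen := center_eq_bot D h hsq hC
  obtain ⟨x, hxK, hx1⟩ : ∃ x ∈ A ⊓ K, x ≠ 1 := by
    refine (bot_or_exists_ne_one _).resolve_left fun e => hK.2 ?_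
    have := hC.sup
    rw [e, bot_sup_eq] at this
    exact le_centralizer_iff.1 (fun a ha => (this.ge ha).2)
  obtain ⟨hxA, hxK⟩ := hxK
  have hwy : ∀ y ∈ A, w * y * w⁻¹ = y → y ∈ centralizer (K : Set G) := fun y hy hwy => by
    obtain ⟨b, hb, rfl⟩ := hw.lift y hy hwy
    exact himg b hb K hK
  set y := w * x * w⁻¹ * x⁻¹ with hy
  have hyA : y ∈ A := mul_mem ((mem_normalizer_iff.1 hw.norm x).1 hxA) (inv_mem hxA)
  by_cases hy1 : y = 1
  · exact hx1 (eq_one_of_mem hcen hxK (hwy x hxA (mul_inv_eq_one.1 hy1)))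
  have hwfix : w * y * w⁻¹ = y :=
    mul_inv_eq_one.1 ((hw.twice x hxA).trans (part_fixed D h hsq L hw hK hxA hxK))
  have hyc := hwy y hyA hwfix
  by_cases hwK : w ∈ normalizer (K : Set G)
  · exact hy1 (eq_one_of_mem hcen (mul_mem ((mem_normalizer_iff.1 hwK x).1 hxK) (inv_mem hxK)) hyc)
  · have h1 : w * x * w⁻¹ ∈ centralizer (K : Set G) :=
      mem_centralizer_of_ne (IsComponent.conj hK.1 w) hK.1
        (fun e => hwK (mem_normalizer_of_fix e)) ⟨x, hxK, rfl⟩
    refine hx1 (eq_one_of_mem hcen hxK ?_)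
    rw [show x = y⁻¹ * (w * x * w⁻¹) from by
      rw [hy, mul_inv_rev, inv_inv, inv_mul_cancel_right]]
    exact mul_mem (inv_mem hyc) h1

end Moved

/-- Strong closure and no odd core give normality. -/
theorem normal_of_setup (hTI : Goldschmidt.ThreeInv.ThreeInvTarget.{u}) (hO : Cfsg.oddCore G = ⊥)
    (D : Setup (S : Subgroup G) A φ) (h : Only64 (S : Subgroup G) A) (hsq : ∀ a ∈ A, a * a = 1) :
    A.Normal := by
  haveI : Fact (Nat.Prime 2) := ⟨Nat.prime_two⟩
  have hsc := isStronglyClosed D h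
  have L := local_of_closed hTI hO h hsq hsc
  have hlay : Cfsg.layer G ≤ centralizer (A : Set G) := layer_le fun K hK => by
    by_contra hne
    exact no_moved D h hsq L ⟨hK, hne⟩
  haveI hn : (pCore 2 G).Normal := Cores.pCore_normal 2 G
  have hO2 : A ≤ pCore 2 G := fun a ha =>
    Goldschmidt.ThreePrime.mem_pCore_of_centralizes_layer L.core L.elem (L.subset ha)
      (le_centralizer_iff.1 hlay ha)
  have hS : pCore 2 G ≤ (S : Subgroup G) := by
    obtain ⟨Q, hQ⟩ := (Cores.isPGroup_pCore 2 G).exists_le_sylow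
    obtain ⟨g, hg⟩ := MulAction.exists_smul_eq G Q S
    intro x hx
    rw [← hg, Sylow.coe_subgroup_smul, Coprime.mem_conj]
    exact hQ (by simpa using hn.conj_mem x hx g⁻¹)
  exact ⟨fun a ha g => hsc.2 a ha g (hS (hn.conj_mem a (hO2 ha) g))⟩

/-- The statement of S3169, given the theorem on three classes of involutions. -/
theorem normal_of_threeInv (hTI : Goldschmidt.ThreeInv.ThreeInvTarget.{u}) (hO : Cfsg.oddCore G = ⊥)
    (S : Sylow 2 G) (P : Sylow 2 ↥Cfsg.M24)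
    (hS : Nonempty (↥(S : Subgroup G) ≃* (↥(P : Subgroup ↥Cfsg.M24) ⧸ Subgroup.center ↥(P : Subgroup ↥Cfsg.M24))))
    (A : Subgroup G) (hA : A ≤ (S : Subgroup G)) (hAc : IsMulCommutative ↥A) (hA64 : Nat.card ↥A = 64) :
    A.Normal := by
  obtain ⟨φ, D, hsq, h⟩ := exists_setup S P hS hA hAc hA64
  exact normal_of_setup hTI hO D h hsq

end Cfsg.Agent.M24SylowType
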