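import Cfsg.Agent.Lib.M24SylowType.Span

/-!
Certificates for the subgroups with a central element outside the abelian subgroup.

* `Verdict`, `Row`, `Family`, `checkFamily` : the certificate and its check
-/

set_option autoImplicit false

namespace Cfsg.Agent.M24SylowType

/-- The product with the inverse on the right. -/
def conjN (g h : ℕ) : ℕ := mulN (mulN g h) (invN g)

/-- The commutator. -/
def commN (g h : ℕ) : ℕ := mulN (conjN g h) (invN h)

/-- Whether two codes commute. -/
def commutes (g h : ℕ) : Bool := Nat.beq (mulN g h) (mulN h g)

/-- Why a subgroup is not a link: it is not self-centralising, an element stabilises its chain, or two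
involutions of the automiser differ. -/
inductive Verdict where
  | nc (z : ℕ)
  | stab (g : ℕ)
  | inv (g₁ g₂ : ℕ)

/-- A subgroup with generators, mask and verdict. -/
structure Row where
  gens : List ℕ
  mask : ℕ
  len : ℕ
  verdict : Verdict

/-- The subgroups between the centre of a centraliser and the centraliser. -/
structure Family where
  u : ℕ
  cent : ℕ
  gens : List ℕ
  reps : List ℕ
  rows : List Row

/-- The distinct squares of a list. -/
def squares (l : List ℕ) : List ℕ :=
  (l.foldl (fun (st : List ℕ × ℕ) h => bif has st.2 (mulN h h) then st
    else (mulN h h :: st.1, Nat.lor st.2 (Nat.shiftLeft 1 (mulN h h)))) ([], 0)).1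

def allSquares (l : List ℕ) (P : List ℕ × ℕ) : Bool := l.all fun h => has P.2 (mulN h h)

/-- The elements commuting with the generators. -/
def centre (gens l : List ℕ) : List ℕ := l.filter fun z => gens.all fun g => commutes g z

def normalises (gens : List ℕ) (m g : ℕ) : Bool :=
  Nat.blt g 512 && !(has m g) && gens.all fun h => has m (conjN g h)

def stabOK (gens l : List ℕ) (g : ℕ) (P : List ℕ × ℕ) : Bool :=
  (gens.all fun h => gens.all fun k => commutes k (commN g h)) &&
    (centre gens l).all fun z => has P.2 (commN g z) && (!(has P.2 z) || Nat.beq (commN g z) 0)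

def fixedCount (l : List ℕ) (g : ℕ) (P : List ℕ × ℕ) : ℕ := l.countP fun h => has P.2 (commN g h)

def phiOK (l : List ℕ) (sq : List ℕ) (P : List ℕ × ℕ) : Bool :=
  closedOK sq P && allSquares l P

/-- The check of a verdict. -/
def checkVerdict (gens l : List ℕ) (m : ℕ) : Verdict → Bool
  | .nc z => Nat.blt z 512 && !(has m z) && gens.all fun h => commutes h z
  | .stab g => normalises gens m g && phiOK l (squares l) (span (squares l)) &&
      stabOK gens l g (span (squares l))
  | .inv g₁ g₂ => normalises gens m g₁ && normalises gens m g₂ && has m (mulN g₁ g₁) &&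
      has m (mulN g₂ g₂) && phiOK l (squares l) (span (squares l)) &&
      !(Nat.beq (fixedCount l g₁ (span (squares l))) (fixedCount l g₂ (span (squares l))))

/-- The check of a row, with the rows above it. -/
def checkRow (F : Family) (R : Row) : Bool :=
  closedOK R.gens (span R.gens) && Nat.beq (span R.gens).2 R.mask &&
    Nat.beq (span R.gens).1.length R.len &&
    checkVerdict R.gens (span R.gens).1 R.mask R.verdict &&
    F.reps.all fun c => !(normalises R.gens R.mask c) || !(has R.mask (mulN c c)) ||
      F.rows.any fun K => Nat.beq K.len (Nat.mul 2 R.len) && has K.mask c &&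
        R.gens.all fun g => has K.mask g

/-- The check of the centraliser and of the bottom. -/
def checkBase (F : Family) : Bool :=
  Nat.blt F.u 512 &&
  (M24Sylow.all512 fun x => has F.cent x == commutes x F.u) &&
  closedOK F.gens (span F.gens) &&
  (F.gens.all fun z => M24Sylow.all512 fun x => !(has F.cent x) || commutes x z) &&
  (F.reps.all fun c => Nat.blt c 512) &&
  (M24Sylow.all512 fun x => !(has F.cent x) || F.reps.any fun c => has (span F.gens).2 (mulN (invN c) x)) &&
  F.rows.any fun K => Nat.beq K.mask (span F.gens).2

/-- The check of a family. -/
def checkFamily (F : Family) : Bool := checkBase F && F.rows.all (checkRow F)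

end Cfsg.Agent.M24SylowType
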