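import Cfsg.Agent.Lib.M24SylowType.Model

/-!
Computed subgroups of the numbered 2-group.

* `span`, `Setup.span_spec` : the subgroup generated by a list of codes
-/

set_option autoImplicit false
set_option linter.unusedSectionVars false

namespace Cfsg.Agent.M24SylowType

/-- The group, its Sylow subgroup, the numbering and the abelian subgroup of order 64. -/
structure Setup {G : Type*} [Group G] (S A : Subgroup G) (φ : ℕ → G) : Prop where
  zero : φ 0 = 1
  mul : ∀ x < 512, ∀ y < 512, φ (mulN x y) = φ x * φ y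
  inj : ∀ x < 512, ∀ y < 512, φ x = φ y → x = y
  mem : ∀ s, s ∈ S ↔ ∃ x < 512, φ x = s
  memA : ∀ x < 512, φ x ∈ A ↔ x % 8 = 0
  le : A ≤ S

/-- Whether a code is in a mask. -/
def has (m x : ℕ) : Bool := Nat.testBit m x

def push (x : ℕ) (st : List ℕ × List ℕ × ℕ) (g : ℕ) : List ℕ × List ℕ × ℕ :=
  bif has st.2.2 (mulN x g) then st
  else (mulN x g :: st.1, mulN x g :: st.2.1, Nat.lor st.2.2 (Nat.shiftLeft 1 (mulN x g)))

def grow (gens : List ℕ) : ℕ → List ℕ × List ℕ × ℕ → List ℕ × ℕ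
  | 0, st => st.2
  | _ + 1, ([], l, m) => (l, m)
  | f + 1, (x :: rest, l, m) => grow gens f (gens.foldl (push x) (rest, l, m))

/-- The list and the mask of the subgroup generated by codes. -/
def span (gens : List ℕ) : List ℕ × ℕ := grow gens 600 ([0], [0], 1)

/-- The list is closed under right multiplication by the generators. -/
def closedOK (gens : List ℕ) (sp : List ℕ × ℕ) : Bool :=
  gens.all (fun g => Nat.blt g 512) && sp.1.all fun x => gens.all fun g => has sp.2 (mulN x g)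

/-- The mask of a list agrees with the list. -/
def Good3 (P : ℕ → Prop) (st : List ℕ × List ℕ × ℕ) : Prop :=
  (∀ x ∈ st.1, x < 512 ∧ P x) ∧ (∀ x ∈ st.2.1, x < 512 ∧ P x) ∧
    (∀ y, has st.2.2 y = true ↔ y ∈ st.2.1) ∧ st.2.1.Nodup ∧ 0 ∈ st.2.1

theorem push_good {P : ℕ → Prop} {x : ℕ} (hx : x < 512) {g : ℕ}
    (hP : P (mulN x g)) {st : List ℕ × List ℕ × ℕ} (h : Good3 P st) : Good3 P (push x st g) := by
  obtain ⟨h1, h2, h3, h4, h5⟩ := h
  unfold push
  cases hh : has st.2.2 (mulN x g)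
  · refine ⟨?_, ?_, ?_, ?_, List.mem_cons_of_mem _ h5⟩
    · intro y hy
      rcases List.mem_cons.1 hy with rfl | hy
      · exact ⟨mulN_lt hx g, hP⟩
      · exact h1 y hy
    · intro y hy
      rcases List.mem_cons.1 hy with rfl | hy
      · exact ⟨mulN_lt hx g, hP⟩
      · exact h2 y hy
    · intro y
      simp only [cond_false, List.mem_cons]
      show Nat.testBit (st.2.2 ||| 1 <<< mulN x g) y = true ↔ _
      rw [Nat.testBit_or, Nat.one_shiftLeft, Nat.testBit_two_pow, Bool.or_eq_true, decide_eq_true_eq]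
      constructor
      · rintro (h' | h')
        · exact Or.inr ((h3 y).1 h')
        · exact Or.inl h'.symm
      · rintro (h' | h')
        · exact Or.inr h'.symm
        · exact Or.inl ((h3 y).2 h')
    · refine List.nodup_cons.2 ⟨fun hm => ?_, h4⟩
      rw [(h3 _).2 hm] at hh
      exact Bool.noConfusion hh
  · exact ⟨h1, h2, h3, h4, h5⟩

theorem foldl_good {P : ℕ → Prop} {x : ℕ} (hx : x < 512) :
    ∀ (gens : List ℕ), (∀ g ∈ gens, P (mulN x g)) → ∀ st, Good3 P st → Good3 P (gens.foldl (push x) st)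
  | [], _, _, h => h
  | g :: gens, hP, st, h =>
    foldl_good hx gens (fun g' hg' => hP g' (List.mem_cons_of_mem _ hg')) _
      (push_good hx (hP g List.mem_cons_self) h)

theorem grow_good {P : ℕ → Prop} {gens : List ℕ} (hP : ∀ x < 512, P x → ∀ g ∈ gens, P (mulN x g)) :
    ∀ (f : ℕ) (st : List ℕ × List ℕ × ℕ), Good3 P st →
      (∀ x ∈ (grow gens f st).1, x < 512 ∧ P x) ∧
      (∀ y, has (grow gens f st).2 y = true ↔ y ∈ (grow gens f st).1) ∧
      (grow gens f st).1.Nodup ∧ 0 ∈ (grow gens f st).1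
  | 0, _, h => h.2
  | _ + 1, ([], _, _), h => h.2
  | f + 1, (x :: rest, l, m), h => by
    obtain ⟨hx, hPx⟩ := h.1 x List.mem_cons_self
    exact grow_good hP f _ (foldl_good hx gens (hP x hx hPx) _
      ⟨fun y hy => h.1 y (List.mem_cons_of_mem _ hy), h.2.1, h.2.2.1, h.2.2.2.1, h.2.2.2.2⟩)

theorem span_good {P : ℕ → Prop} {gens : List ℕ} (h0 : P 0)
    (hP : ∀ x < 512, P x → ∀ g ∈ gens, P (mulN x g)) :
    (∀ x ∈ (span gens).1, x < 512 ∧ P x) ∧ (∀ y, has (span gens).2 y = true ↔ y ∈ (span gens).1) ∧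
      (span gens).1.Nodup ∧ 0 ∈ (span gens).1 := by
  have hb : ∀ x ∈ [0], x < 512 ∧ P x := by simpa using h0
  exact grow_good hP _ _ ⟨hb, hb, fun y => by
    show Nat.testBit 1 y = true ↔ y ∈ [0]
    rw [← pow_zero 2, Nat.testBit_two_pow]; simp [eq_comm], List.nodup_singleton 0, List.mem_singleton_self 0⟩

variable {G : Type*} [Group G] [Finite G] {S A : Subgroup G} {φ : ℕ → G}

/-- The subgroup generated by codes. -/
def gen (φ : ℕ → G) (gens : List ℕ) : Subgroup G := Subgroup.closure (φ '' {x | x ∈ gens})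

theorem Setup.span_spec (D : Setup S A φ) {gens : List ℕ} (hc : closedOK gens (span gens) = true) :
    (∀ y, has (span gens).2 y = true ↔ y ∈ (span gens).1) ∧ (span gens).1.Nodup ∧
    (∀ x ∈ (span gens).1, x < 512) ∧
    (∀ x < 512, (φ x ∈ gen φ gens ↔ x ∈ (span gens).1)) ∧
    (∀ s ∈ gen φ gens, ∃ x ∈ (span gens).1, φ x = s) := by
  simp only [closedOK, Bool.and_eq_true, List.all_eq_true] at hc
  obtain ⟨hg512, hcl⟩ := hc
  have hg : ∀ g ∈ gens, g < 512 := fun g hg => by simpa [Nat.blt_eq] using hg512 g hg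
  obtain ⟨hP, hm, hnd, h0⟩ := span_good (P := fun x => φ x ∈ gen φ gens) (gens := gens)
    (by rw [D.zero]; exact one_mem _) (fun x hx hxm g hgm => by
      rw [D.mul x hx g (hg g hgm)]
      exact mul_mem hxm (Subgroup.subset_closure ⟨g, hgm, rfl⟩))
  let K : Submonoid G :=
    { carrier := {s | ∀ x ∈ (span gens).1, ∃ y ∈ (span gens).1, φ y = φ x * s}
      one_mem' := fun x hx => ⟨x, hx, (mul_one _).symm⟩
      mul_mem' := fun {a b} ha hb x hx => by
        obtain ⟨y, hy, ey⟩ := ha x hx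
        obtain ⟨z, hz, ez⟩ := hb y hy
        exact ⟨z, hz, by rw [ez, ey, mul_assoc]⟩ }
  have hK : ∀ s ∈ gen φ gens, s ∈ K := by
    intro s hs
    have hs' : s ∈ Submonoid.closure (φ '' {x | x ∈ gens}) := by
      rw [← Subgroup.closure_toSubmonoid_of_finite]; exact hs
    refine (Submonoid.closure_le (S := K)).2 ?_ hs'
    rintro _ ⟨g, hgm, rfl⟩ x hx
    exact ⟨_, (hm _).1 (hcl x hx g hgm), D.mul x (hP x hx).1 g (hg g hgm)⟩
  have hall : ∀ s ∈ gen φ gens, ∃ x ∈ (span gens).1, φ x = s := fun s hs => by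
    obtain ⟨y, hy, e⟩ := hK s hs 0 h0
    exact ⟨y, hy, by rw [e, D.zero, one_mul]⟩
  refine ⟨hm, hnd, fun x hx => (hP x hx).1, fun x hx => ⟨fun h => ?_, fun h => (hP x h).2⟩, hall⟩
  obtain ⟨y, hy, e⟩ := hall _ h
  exact D.inj x hx y (hP y hy).1 e.symm ▸ hy

end Cfsg.Agent.M24SylowType
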